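import Cfsg.Agent.Lib.Spor.Cos.Fi22Aut.Bound
import Cfsg.Agent.Lib.Spor.Cos.Fi22.IsSimple

/-!
A group whose quotient by a central subgroup is the automorphism group of Fi22, and its perfect subgroup of index two.
-/

set_option autoImplicit false
set_option maxRecDepth 100000
set_option linter.style.haveILetI false
set_option linter.unusedSectionVars false

open Cfsg
open scoped commutatorElement

namespace Cfsg.Agent.Spor.M23Outer

theorem fi22_perfect : commutator Spor.Fi22 = ⊤ := by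
  haveI := Cos.Fi22.isSimple
  refine (IsSimpleGroup.eq_bot_or_eq_top_of_normal _ inferInstance).resolve_left fun h => ?_
  obtain ⟨x, hx⟩ := exists_ne (1 : Spor.Fi22)
  refine hx (Cos.Fi22Aut.conj_inj (x := x) (y := 1) ?_)
  ext w
  have hc : x * w = w * x := commutatorElement_eq_one_iff_mul_comm.1 (by
    have hm := Subgroup.commutator_mem_commutator (Subgroup.mem_top x) (Subgroup.mem_top w)
    rwa [← commutator_def, h, Subgroup.mem_bot] at hm)
  simp [MulAut.conj_apply, hc]

theorem inn_normal : ((MulAut.conj (G := Spor.Fi22)).range).Normal :=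
  ⟨by rintro _ ⟨x, rfl⟩ φ; exact ⟨φ x, Cos.Fi22Aut.conj_aut φ x⟩⟩

theorem commutator_le_inn (a b : MulAut Spor.Fi22) : ⁅a, b⁆ ∈ (MulAut.conj (G := Spor.Fi22)).range := by
  haveI := inn_normal
  set I := (MulAut.conj (G := Spor.Fi22)).range
  have key : ∀ φ : MulAut Spor.Fi22, ((φ : MulAut Spor.Fi22) : MulAut Spor.Fi22 ⧸ I) = 1 ∨
      (φ : MulAut Spor.Fi22 ⧸ I) = (Cos.Fi22Aut.psi : MulAut Spor.Fi22 ⧸ I) := fun φ => by
    obtain ⟨c, rfl | rfl⟩ := Cos.Fi22Aut.aut_cases φ
    · exact Or.inl ((QuotientGroup.eq_one_iff _).2 ⟨c, rfl⟩)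
    · refine Or.inr ?_
      rw [QuotientGroup.mk_mul, (QuotientGroup.eq_one_iff (N := I) (MulAut.conj c)).2 ⟨c, rfl⟩, one_mul]
  rw [← QuotientGroup.eq_one_iff]
  show ((a * b * a⁻¹ * b⁻¹ : MulAut Spor.Fi22) : MulAut Spor.Fi22 ⧸ I) = 1
  rw [QuotientGroup.mk_mul, QuotientGroup.mk_mul, QuotientGroup.mk_mul, QuotientGroup.mk_inv, QuotientGroup.mk_inv]
  rcases key a with e | e <;> rcases key b with e' | e' <;> rw [e, e'] <;> group

/-- A homomorphism from a perfect group kills it when the images commute. -/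
theorem perfect_kill {K A : Type*} [Group K] [Group A] (hK : commutator K = ⊤) (f : K →* A)
    (hf : ∀ a b, f a * f b = f b * f a) (k : K) : f k = 1 := by
  have h : commutator K ≤ f.ker := by
    rw [commutator_def]
    refine Subgroup.commutator_le.2 fun a _ b _ => ?_
    rw [MonoidHom.mem_ker, map_commutatorElement]
    exact commutatorElement_eq_one_iff_mul_comm.2 (hf a b)
  exact h (hK ▸ Subgroup.mem_top k)

variable {C : Type*} [Group C] [Finite C] {K T : Subgroup C} [hT : T.Normal]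

theorem quot_data (hK : commutator ↥K = ⊤) (hidx : K.index = 2)
    (hTc : T ≤ Subgroup.center C) (e : C ⧸ T ≃* MulAut Spor.Fi22) :
    Nonempty (↥K ⧸ T.subgroupOf K ≃* Spor.Fi22) ∧ (∀ c : C, (∀ k ∈ K, c * k = k * c) → c ∈ T) ∧
      ∀ α : MulAut C, (∀ k ∈ K, α k ∈ K) → (∀ t ∈ T, α t = t) → ∃ c : C, ∀ k ∈ K, α k = c * k * c⁻¹ := by
  haveI := inn_normal
  set π : C →* MulAut Spor.Fi22 := e.toMonoidHom.comp (QuotientGroup.mk' T) with hπ
  have hsur : Function.Surjective π := e.surjective.comp (QuotientGroup.mk'_surjective T)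
  have hker : ∀ c, π c = 1 ↔ c ∈ T := fun c => by
    rw [hπ]; simp [QuotientGroup.eq_one_iff]
  have hle : ∀ k ∈ K, π k ∈ (MulAut.conj (G := Spor.Fi22)).range := fun k hk => by
    rw [← QuotientGroup.eq_one_iff]
    exact perfect_kill hK (((QuotientGroup.mk' _).comp π).comp K.subtype) (fun a b => by
      refine commutatorElement_eq_one_iff_mul_comm.1 ?_
      rw [← map_commutatorElement, MonoidHom.comp_apply, MonoidHom.comp_apply, map_commutatorElement K.subtype, map_commutatorElement π,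
        QuotientGroup.mk'_apply, QuotientGroup.eq_one_iff]
      exact commutator_le_inn _ _) ⟨k, hk⟩
  have hge : ∀ x : Spor.Fi22, ∃ k ∈ K, π k = MulAut.conj x := by
    let S : Subgroup Spor.Fi22 := (K.map π).comap MulAut.conj
    have hS : commutator Spor.Fi22 ≤ S := by
      rw [commutator_def]
      refine Subgroup.commutator_le.2 fun a _ b _ => ?_
      obtain ⟨p, hp⟩ := hsur (MulAut.conj a)
      obtain ⟨q, hq⟩ := hsur (MulAut.conj b)
      refine ⟨⁅p, q⁆, ?_, by rw [map_commutatorElement, hp, hq, map_commutatorElement]⟩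
      have h : ∀ u v : C, (u * v ∈ K ↔ (u ∈ K ↔ v ∈ K)) := fun u v => Subgroup.mul_mem_iff_of_index_two hidx
      rw [commutatorElement_def]
      simp only [SetLike.mem_coe, h, Subgroup.inv_mem_iff]
      tauto
    intro x
    obtain ⟨k, hk, e⟩ := hS (fi22_perfect ▸ Subgroup.mem_top x)
    exact ⟨k, hk, e⟩
  let ρ₀ : ↥K →* ↥(MulAut.conj (G := Spor.Fi22)).range := (π.comp K.subtype).codRestrict _ fun k => hle k k.2
  let ι := MonoidHom.ofInjective (f := (MulAut.conj (G := Spor.Fi22))) fun a b h => Cos.Fi22Aut.conj_inj h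
  let ρ : ↥K →* Spor.Fi22 := ι.symm.toMonoidHom.comp ρ₀
  have hρ : ∀ k : K, MulAut.conj (ρ k) = π k := fun k =>
    (MonoidHom.apply_ofInjective_symm (f := (MulAut.conj (G := Spor.Fi22))) (fun a b h => Cos.Fi22Aut.conj_inj h) (ρ₀ k)).trans rfl
  have hρs : Function.Surjective ρ := fun x => by
    obtain ⟨k, hk, e⟩ := hge x
    exact ⟨⟨k, hk⟩, Cos.Fi22Aut.conj_inj ((hρ _).trans e)⟩
  have hρk : T.subgroupOf K = ρ.ker := by
    ext k
    rw [Subgroup.mem_subgroupOf, ← hker, ← hρ, MonoidHom.mem_ker]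
    exact ⟨fun h => Cos.Fi22Aut.conj_inj (h.trans (map_one _).symm), fun h => by rw [h, map_one]⟩
  refine ⟨⟨(QuotientGroup.quotientMulEquivOfEq hρk).trans (QuotientGroup.quotientKerEquivOfSurjective ρ hρs)⟩,
    fun c hc => ?_, fun α hαK hαT => ?_⟩
  · rw [← hker]
    refine MulEquiv.ext fun x => Cos.Fi22Aut.conj_inj ?_
    obtain ⟨k, hk, e⟩ := hge x
    rw [Cos.Fi22Aut.conj_aut, ← e, ← map_inv, ← map_mul, ← map_mul, hc k hk, mul_inv_cancel_right, e]
    rfl
  · let αK : ↥K ≃* ↥K := MulEquiv.ofBijective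
      ((α.toMonoidHom.comp K.subtype).codRestrict K fun k => hαK k k.2)
      (Finite.injective_iff_bijective.1 fun a b h => Subtype.ext (α.injective (congrArg Subtype.val h)))
    have hmap : (T.subgroupOf K).map αK.toMonoidHom = T.subgroupOf K := by
      ext k
      constructor
      · rintro ⟨t, ht, rfl⟩
        show α (t : C) ∈ T
        have ht' : (t : C) ∈ T := ht
        rw [hαT _ ht']; exact ht'
      · intro hk
        exact ⟨k, hk, Subtype.ext (hαT _ hk)⟩
    let F := (QuotientGroup.quotientMulEquivOfEq hρk).trans (QuotientGroup.quotientKerEquivOfSurjective ρ hρs)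
    let β : MulAut Spor.Fi22 := (F.symm.trans (QuotientGroup.congr _ _ αK hmap)).trans F
    have hβ : ∀ k : K, β (ρ k) = ρ (αK k) := fun k => by
      have hF : ∀ k : K, F k = ρ k := fun k => rfl
      show F (QuotientGroup.congr _ _ αK hmap (F.symm (ρ k))) = _
      rw [show F.symm (ρ k) = (k : ↥K ⧸ T.subgroupOf K) from F.injective (by rw [MulEquiv.apply_symm_apply, hF])]
      rfl
    obtain ⟨c, hc⟩ := hsur β
    refine ⟨c, fun k hk => ?_⟩
    let δ : ↥K → C := fun k => (c * k * c⁻¹)⁻¹ * α k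
    have hδT : ∀ k, δ k ∈ T := fun k => by
      rw [← hker, map_mul, map_inv, map_mul, map_mul, map_inv, inv_mul_eq_one, hc, ← hρ, ← Cos.Fi22Aut.conj_aut, hβ,
        hρ]
      rfl
    let δh : ↥K →* C := MonoidHom.mk' δ fun a b => by
      have hz := Subgroup.mem_center_iff.1 (hTc (hδT a))
      show (c * ((a : C) * b) * c⁻¹)⁻¹ * α ((a : C) * b) = δ a * δ b
      rw [map_mul, show (c * ((a : C) * b) * c⁻¹)⁻¹ * (α (a : C) * α (b : C)) =
        (c * b * c⁻¹)⁻¹ * δ a * α (b : C) by simp only [δ]; group, hz, mul_assoc]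
    have h1 := perfect_kill hK δh (fun a b => (Subgroup.mem_center_iff.1 (hTc (hδT a)) _).symm) ⟨k, hk⟩
    exact (inv_mul_eq_one.1 h1).symm

end Cfsg.Agent.Spor.M23Outer
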