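import Cfsg.Agent.Lib.Spor.LargeFischer.Coords

/-!
Vectors perpendicular to a big subgroup of the twelve dimensional symplectic space.
-/

set_option autoImplicit false
set_option maxRecDepth 100000
set_option linter.style.haveILetI false
set_option linter.unusedSectionVars false

open Cfsg Cfsg.Agent.Classical Matrix
open Cfsg.Agent.Spor.USixTwo (K4)

namespace Cfsg.Agent.Spor.M23Outer

open LargeFischer

set_option synthInstance.maxSize 2000 in
set_option synthInstance.maxHeartbeats 200000 in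
theorem dual3 : ∀ S : Finset (ZMod 2 × ZMod 2 × ZMod 2), 0 ∈ S → (∀ a ∈ S, ∀ b ∈ S, a + b ∈ S) →
    S = Finset.univ ∨ ∃ c : ZMod 2 × ZMod 2 × ZMod 2, c ≠ 0 ∧
      ∀ a ∈ S, c.1 * a.1 + c.2.1 * a.2.1 + c.2.2 * a.2.2 = 0 := by decide +kernel

theorem dual2 : ∀ S : Finset (ZMod 2 × ZMod 2), 0 ∈ S → (∀ a ∈ S, ∀ b ∈ S, a + b ∈ S) →
    S = Finset.univ ∨ ∃ c : ZMod 2 × ZMod 2, c ≠ 0 ∧ ∀ a ∈ S, c.1 * a.1 + c.2 * a.2 = 0 := by decide +kernel

theorem card_V6 : Nat.card V6 = 4096 := by
  rw [Nat.card_eq_fintype_card, Fintype.card_fun, Fintype.card_fin]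
  rw [show Fintype.card K4 = 4 by decide +kernel]
  norm_num

theorem T6_zero_right (u : V6) : T6 u 0 = 0 := by
  have h := T6_add_right u 0 0
  rw [add_zero] at h
  exact left_eq_add.1 h

variable {G : Type*} [Group G] [Finite G] {z : G} {Q : Subgroup (Subgroup.centralizer ({z} : Set G))}
  [hQn : Q.Normal] (m : Model z Q)

include m

theorem T6_nondeg {p : V6} (h : ∀ v, T6 v p = 0) : p = 0 := by
  obtain ⟨x, rfl⟩ := m.rep_surj p
  refine (m.rep_zero x).2 (m.ext.cen _ (mem_QG.2 ⟨x, rfl⟩) fun q hq => ?_)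
  obtain ⟨q, rfl⟩ := mem_QG.1 hq
  exact (m.comm_iff q x).2 (h _)

/-- The zero set of three functionals is small unless they are dependent. -/
theorem perp_three {A : AddSubgroup V6} (hA : 512 < Nat.card A) {p q r : V6} (hp : ∀ u ∈ A, T6 u p = 0)
    (hq : ∀ u ∈ A, T6 u q = 0) (hr : ∀ u ∈ A, T6 u r = 0) :
    p = 0 ∨ q = 0 ∨ r = 0 ∨ p + q = 0 ∨ p + r = 0 ∨ q + r = 0 ∨ p + q + r = 0 := by
  classical
  let f : V6 →+ ZMod 2 × ZMod 2 × ZMod 2 := AddMonoidHom.mk' (fun v => (T6 v p, T6 v q, T6 v r)) fun a b => by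
    simp only [T6_add_left, Prod.mk_add_mk]
  haveI : Fintype f.range := Fintype.ofFinite _
  let S : Finset (ZMod 2 × ZMod 2 × ZMod 2) := Finset.univ.filter (· ∈ f.range)
  have hS : ∀ a, a ∈ S ↔ a ∈ f.range := fun a => by simp [S]
  rcases dual3 S ((hS 0).2 (zero_mem _)) (fun a ha b hb => (hS _).2 (add_mem ((hS a).1 ha) ((hS b).1 hb))) with
    h | ⟨c, hc, h⟩
  · exfalso
    have hsur : Function.Surjective f := fun a => (hS a).1 (h ▸ Finset.mem_univ a)
    have h1 := AddSubgroup.card_eq_card_quotient_mul_card_addSubgroup f.ker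
    rw [Nat.card_congr (QuotientAddGroup.quotientKerEquivOfSurjective f hsur).toEquiv, card_V6,
      Nat.card_eq_fintype_card, Fintype.card_prod, Fintype.card_prod, ZMod.card] at h1
    have h2 : A ≤ f.ker := fun u hu => by
      show (T6 u p, T6 u q, T6 u r) = 0
      rw [hp u hu, hq u hu, hr u hu]; rfl
    have h3 := AddSubgroup.card_le_of_le h2
    omega
  · have key : ∀ v, T6 v p * c.1 + T6 v q * c.2.1 + T6 v r * c.2.2 = 0 := fun v => by
      have := h _ ((hS _).2 ⟨v, rfl⟩)
      simp only [f, AddMonoidHom.mk'_apply] at this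
      linear_combination this
    obtain ⟨c1, c2, c3⟩ := c
    have b : ∀ s : ZMod 2, s = 0 ∨ s = 1 := by decide
    rcases b c1 with rfl | rfl <;> rcases b c2 with rfl | rfl <;> rcases b c3 with rfl | rfl <;>
      simp only [mul_zero, mul_one, add_zero, zero_add] at key
    · exact absurd rfl hc
    · exact Or.inr (Or.inr (Or.inl (T6_nondeg m key)))
    · exact Or.inr (Or.inl (T6_nondeg m key))
    · exact Or.inr (Or.inr (Or.inr (Or.inr (Or.inr (Or.inl (T6_nondeg m fun v => by
        rw [T6_add_right]; exact key v))))))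
    · exact Or.inl (T6_nondeg m key)
    · exact Or.inr (Or.inr (Or.inr (Or.inr (Or.inl (T6_nondeg m fun v => by rw [T6_add_right]; exact key v)))))
    · exact Or.inr (Or.inr (Or.inr (Or.inl (T6_nondeg m fun v => by rw [T6_add_right]; exact key v))))
    · exact Or.inr (Or.inr (Or.inr (Or.inr (Or.inr (Or.inr (T6_nondeg m fun v => by
        rw [T6_add_right, T6_add_right]; exact key v))))))

/-- Two independent functionals vanishing on a quarter of the space define it. -/
theorem perp_two {A : AddSubgroup V6} (hA : 1024 ≤ Nat.card A) {p q : V6} (hp : ∀ u ∈ A, T6 u p = 0)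
    (hq : ∀ u ∈ A, T6 u q = 0) (hp0 : p ≠ 0) (hq0 : q ≠ 0) (hpq : p + q ≠ 0) :
    Nat.card A = 1024 ∧ ∀ v, T6 v p = 0 → T6 v q = 0 → v ∈ A := by
  classical
  let f : V6 →+ ZMod 2 × ZMod 2 := AddMonoidHom.mk' (fun v => (T6 v p, T6 v q)) fun a b => by
    simp only [T6_add_left, Prod.mk_add_mk]
  haveI : Fintype f.range := Fintype.ofFinite _
  let S : Finset (ZMod 2 × ZMod 2) := Finset.univ.filter (· ∈ f.range)
  have hS : ∀ a, a ∈ S ↔ a ∈ f.range := fun a => by simp [S]
  rcases dual2 S ((hS 0).2 (zero_mem _)) (fun a ha b hb => (hS _).2 (add_mem ((hS a).1 ha) ((hS b).1 hb))) with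
    h | ⟨c, hc, h⟩
  · have hsur : Function.Surjective f := fun a => (hS a).1 (h ▸ Finset.mem_univ a)
    have h1 := AddSubgroup.card_eq_card_quotient_mul_card_addSubgroup f.ker
    rw [Nat.card_congr (QuotientAddGroup.quotientKerEquivOfSurjective f hsur).toEquiv, card_V6,
      Nat.card_eq_fintype_card, Fintype.card_prod, ZMod.card] at h1
    have h2 : A ≤ f.ker := fun u hu => by
      show (T6 u p, T6 u q) = 0
      rw [hp u hu, hq u hu]; rfl
    have h3 := AddSubgroup.card_le_of_le h2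
    have he : A = f.ker := AddSubgroup.eq_of_le_of_card_ge h2 (by omega)
    exact ⟨by omega, fun v h1 h2 => he ▸ (show (T6 v p, T6 v q) = 0 by rw [h1, h2]; rfl)⟩
  · exfalso
    have key : ∀ v, T6 v p * c.1 + T6 v q * c.2 = 0 := fun v => by
      have := h _ ((hS _).2 ⟨v, rfl⟩)
      simp only [f, AddMonoidHom.mk'_apply] at this
      linear_combination this
    obtain ⟨c1, c2⟩ := c
    have b : ∀ s : ZMod 2, s = 0 ∨ s = 1 := by decide
    rcases b c1 with rfl | rfl <;> rcases b c2 with rfl | rfl <;>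
      simp only [mul_zero, mul_one, add_zero, zero_add] at key
    · exact hc rfl
    · exact hq0 (T6_nondeg m key)
    · exact hp0 (T6_nondeg m key)
    · exact hpq (T6_nondeg m fun v => by rw [T6_add_right]; exact key v)

end Cfsg.Agent.Spor.M23Outer
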