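import Cfsg.Agent.Lib.Spor.LargeFischer.ScalarCent
import Cfsg.Agent.Lib.Spor.M23Outer.Perp

/-!
An automorphism fixing a quarter of the extraspecial group and commuting with the scalars is an involution on it,
moves along one singular line, and fixes an element turning the line.
-/

set_option autoImplicit false
set_option maxRecDepth 100000
set_option linter.style.haveILetI false
set_option linter.unusedSectionVars false
set_option maxHeartbeats 1000000

open Cfsg Cfsg.Agent.Classical Matrix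
open Cfsg.Agent.Spor.USixTwo (K4)

namespace Cfsg.Agent.Spor.M23Outer

open LargeFischer

variable {G : Type*} [Group G] [Finite G] {z : G} {Q : Subgroup (Subgroup.centralizer ({z} : Set G))}
  [hQn : Q.Normal]

/-- An element of order three spanning, with `Q`, a normal subgroup. -/
theorem exists_scalar_gen (m : Model z Q) (hF : IsOfLargeFischerTypeAt z Q) :
    ∃ x₀ : Subgroup.centralizer ({z} : Set G), Nat.card (Subgroup.zpowers x₀) = 3 ∧
      (Subgroup.zpowers x₀ ⊔ Q).Normal ∧ m.Scalar x₀ := by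
  obtain ⟨-, N, M, hNn, -, hQN, -, hcN, -, -⟩ := hF
  haveI : Fact (Nat.Prime 3) := ⟨Nat.prime_three⟩
  obtain ⟨x, hx⟩ := exists_prime_orderOf_dvd_card' (G := N) 3 ⟨Nat.card Q, hcN⟩
  set X : Subgroup (Subgroup.centralizer ({z} : Set G)) := Subgroup.zpowers ↑x
  have hX : Nat.card X = 3 := by rw [Nat.card_zpowers, Subgroup.orderOf_coe, hx]
  have hcQ : Nat.card Q = 2 ^ 13 := by
    rw [← m.card_QG, Subgroup.card_map_of_injective (Subgroup.subtype_injective _)]
  have hle : X ⊔ Q ≤ N := sup_le (Subgroup.zpowers_le.2 x.2) hQN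
  have h3 : 3 * Nat.card Q ∣ Nat.card ↥(X ⊔ Q) := by
    refine Nat.Coprime.mul_dvd_of_dvd_of_dvd ?_ (hX ▸ Subgroup.card_dvd_of_le le_sup_left)
      (Subgroup.card_dvd_of_le le_sup_right)
    rw [hcQ]; norm_num
  have he : X ⊔ Q = N := Subgroup.eq_of_le_of_card_ge hle (hcN ▸ Nat.le_of_dvd Nat.card_pos h3)
  obtain ⟨x₀, -, -, hs, hz⟩ := exists_scalar m hX (he ▸ hNn)
  exact ⟨x₀, by rw [← hz]; exact hX, by rw [← hz, he]; exact hNn, hs⟩

theorem act_pow (m : Model z Q) {c : Subgroup.centralizer ({z} : Set G)} {a : K4}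
    (h : ∀ v, m.act c v = a • v) : ∀ (i : ℕ) (v : Fin 6 → K4), m.act (c ^ i) v = a ^ i • v
  | 0, v => by rw [pow_zero, pow_zero, m.act_one, one_smul]
  | i + 1, v => by rw [pow_succ', pow_succ, m.act_mul, act_pow m h i, h, mul_comm, mul_smul]

/-- The standing hypotheses. -/
structure Twist (m : Model z Q) (y : Q) (σ : MulAut G) (U : Subgroup G)
    (x₀ : Subgroup.centralizer ({z} : Set G)) : Prop where
  lab : m.lab y = 1
  fixz : σ z = z
  mapQ : ∀ x ∈ QG Q, σ x ∈ QG Q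
  card3 : Nat.card (Subgroup.zpowers x₀) = 3
  normal : (Subgroup.zpowers x₀ ⊔ Q).Normal
  scalar : m.Scalar x₀
  le : U ≤ QG Q
  big : 2 ^ 11 ≤ Nat.card U
  zmem : z ∈ U
  ymem : gv y ∈ U
  ycomm : ∀ u ∈ U, u * gv y = gv y * u
  fix : ∀ u ∈ U, σ u = u

variable {m : Model z Q} {y : Q} {σ : MulAut G} {U : Subgroup G} {x₀ : Subgroup.centralizer ({z} : Set G)}
  (T : Twist m y σ U x₀)

namespace Twist

include T

/-- The map on `Q`. -/
noncomputable def sq (x : Q) : Q :=
  ⟨⟨σ (gv x), QG_le (T.mapQ _ (mem_QG.2 ⟨x, rfl⟩))⟩, by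
    obtain ⟨q, hq⟩ := mem_QG.1 (T.mapQ _ (mem_QG.2 ⟨x, rfl⟩))
    exact (show (⟨σ (gv x), _⟩ : Subgroup.centralizer ({z} : Set G)) = q from Subtype.ext hq.symm) ▸ q.2⟩

theorem gv_sq (x : Q) : gv (T.sq x) = σ (gv x) := rfl

theorem sq_mul (x w : Q) : T.sq (x * w) = T.sq x * T.sq w := Subtype.ext (Subtype.ext (map_mul σ _ _))

theorem sq_zp (x : Q) (s : ZMod 2) : T.sq (x * m.zp s) = T.sq x * m.zp s := by
  rw [T.sq_mul]
  congr 1
  rcases (show ∀ s : ZMod 2, s = 0 ∨ s = 1 by decide) s with rfl | rfl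
  · rw [m.zp_zero]; exact Subtype.ext (Subtype.ext (map_one σ))
  · rw [m.zp_one]; exact Subtype.ext (Subtype.ext T.fixz)

/-- The displacement. -/
noncomputable def disp (v : V6) : V6 := m.rep (T.sq (m.rep_surj v).choose) + v

theorem disp_rep (x : Q) : T.disp (m.rep x) = m.rep (T.sq x) + m.rep x := by
  obtain ⟨s, hs⟩ := m.exists_zp (m.rep_surj (m.rep x)).choose_spec.symm
  rw [disp]
  congr 1
  rw [hs, T.sq_zp, m.rep_mul_zp]

theorem rep_sq (x : Q) : m.rep (T.sq x) = m.rep x + T.disp (m.rep x) := by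
  rw [T.disp_rep, add_comm (m.rep (T.sq x)), ← add_assoc, neg_self6, zero_add]

theorem disp_add (v w : V6) : T.disp (v + w) = T.disp v + T.disp w := by
  obtain ⟨a, rfl⟩ := m.rep_surj v
  obtain ⟨b, rfl⟩ := m.rep_surj w
  rw [← m.rep_mul, T.disp_rep, T.disp_rep, T.disp_rep, T.sq_mul, m.rep_mul, m.rep_mul]
  exact add_add_add_comm _ _ _ _

/-- The image of the fixed group. -/
def FU (_T : Twist m y σ U x₀) : AddSubgroup V6 where
  carrier := {v | ∃ x : Q, gv x ∈ U ∧ m.rep x = v}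
  zero_mem' := ⟨1, U.one_mem, m.rep_one⟩
  add_mem' := fun {v w} ⟨a, ha, ea⟩ ⟨b, hb, eb⟩ => ⟨a * b, mul_mem ha hb, by rw [m.rep_mul, ea, eb]⟩
  neg_mem' := fun {v} ⟨a, ha, ea⟩ => ⟨a, ha, by rw [ea]; exact eq_neg_of_add_eq_zero_left (neg_self6 v)⟩

theorem mem_FU {x : Q} : m.rep x ∈ T.FU ↔ gv x ∈ U := by
  refine ⟨fun ⟨a, ha, ea⟩ => ?_, fun h => ⟨x, h, rfl⟩⟩
  rcases m.rep_eq ea with e | e <;> rw [e]
  exacts [ha, mul_mem ha T.zmem]

theorem card_FU : Nat.card U ≤ 2 * Nat.card T.FU := by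
  classical
  let f : U → T.FU × Bool := fun u =>
    let x := (mem_QG.1 (T.le u.2)).choose
    (⟨m.rep x, x, (show gv x = (u : G) from (mem_QG.1 (T.le u.2)).choose_spec) ▸ u.2, rfl⟩,
      decide (x = (m.rep_surj (m.rep x)).choose))
  have hf : Function.Injective f := fun a b e => by
    set xa := (mem_QG.1 (T.le a.2)).choose with hxa
    set xb := (mem_QG.1 (T.le b.2)).choose with hxb
    have e1 : m.rep xa = m.rep xb := congrArg (fun p : T.FU × Bool => ((p.1 : T.FU) : V6)) e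
    have e2 : decide (xa = (m.rep_surj (m.rep xa)).choose) = decide (xb = (m.rep_surj (m.rep xb)).choose) :=
      congrArg Prod.snd e
    have key : xa = xb := by
      rw [← e1] at e2
      set c := (m.rep_surj (m.rep xa)).choose with hc
      have hca : m.rep c = m.rep xa := (m.rep_surj (m.rep xa)).choose_spec
      obtain ⟨s, hs⟩ := m.exists_zp hca
      obtain ⟨r, hr⟩ := m.exists_zp (hca.trans e1)
      rcases (show ∀ s : ZMod 2, s = 0 ∨ s = 1 by decide) s with rfl | rfl <;>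
        rcases (show ∀ s : ZMod 2, s = 0 ∨ s = 1 by decide) r with rfl | rfl
      · rw [hs, hr]
      · exfalso
        rw [hs, hr, m.zp_zero, m.zp_one, mul_one] at e2
        simp [m.zq_ne] at e2
      · exfalso
        rw [hs, hr, m.zp_zero, m.zp_one, mul_one] at e2
        simp [m.zq_ne] at e2
      · rw [hs, hr]
    refine Subtype.ext ?_
    rw [← (mem_QG.1 (T.le a.2)).choose_spec, ← (mem_QG.1 (T.le b.2)).choose_spec, ← hxa, ← hxb, key]
  have h := Nat.card_le_card_of_injective f hf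
  rwa [Nat.card_prod, Nat.card_eq_fintype_card (α := Bool), Fintype.card_bool, mul_comm] at h

theorem card_FU_ge : 1024 ≤ Nat.card T.FU := by
  have := T.big; have := T.card_FU; omega

theorem disp_FU {v : V6} (hv : v ∈ T.FU) : T.disp v = 0 := by
  obtain ⟨a, ha, rfl⟩ := hv
  rw [T.disp_rep, show T.sq a = a from Subtype.ext (Subtype.ext (T.fix _ ha)), neg_self6]

theorem perp (v : V6) : ∀ u ∈ T.FU, T6 u (T.disp v) = 0 := by
  rintro _ ⟨a, ha, rfl⟩
  obtain ⟨x, rfl⟩ := m.rep_surj v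
  have hu : T.sq a = a := Subtype.ext (Subtype.ext (T.fix _ ha))
  have h1 := congrArg T.sq (m.swap a x)
  rw [T.sq_mul, T.sq_zp, T.sq_mul, hu, m.swap a (T.sq x)] at h1
  have h2 := m.zp_inj (mul_left_cancel h1)
  rw [T.rep_sq, T6_add_right] at h2
  exact add_eq_left.1 h2

theorem act_image : ∃ a : K4, ∀ v, ∀ x : Q, m.rep x = K4.of 2 • v →
    m.rep (T.sq x) = a • (v + T.disp v) := by
  let τ : Subgroup.centralizer ({z} : Set G) →* Subgroup.centralizer ({z} : Set G) :=
    MonoidHom.mk' (fun c => ⟨σ c, Subgroup.mem_centralizer_singleton_iff.2 (by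
      have := congrArg σ (Subgroup.mem_centralizer_singleton_iff.1 c.2)
      rwa [map_mul, map_mul, T.fixz] at this)⟩) fun a b => Subtype.ext (map_mul σ _ _)
  have hτi : Function.Injective τ := fun a b e => Subtype.ext (σ.injective (congrArg Subtype.val e))
  have hτQ : Q.map τ = Q := Subgroup.eq_of_le_of_card_ge (by
    rintro _ ⟨q, hq, rfl⟩
    exact (T.sq ⟨q, hq⟩).2) (Subgroup.card_map_of_injective hτi).ge
  have hn : ((Subgroup.zpowers x₀).map τ ⊔ Q).Normal := by
    have := T.normal.map τ (Finite.injective_iff_surjective.1 hτi)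
    rwa [Subgroup.map_sup, hτQ] at this
  obtain ⟨x₁, -, -, hs, hz⟩ := exists_scalar m (by rw [Subgroup.card_map_of_injective hτi, T.card3]) hn
  obtain ⟨i, hi⟩ := (isOfFinOrder_of_finite x₁).mem_powers_iff_mem_zpowers.2
    (show τ x₀ ∈ Subgroup.zpowers x₁ from hz ▸ ⟨x₀, Subgroup.mem_zpowers _, rfl⟩)
  refine ⟨K4.of 2 ^ i, fun v x hx => ?_⟩
  obtain ⟨w, rfl⟩ := m.rep_surj v
  have e : T.sq (qconj x₀ w) = qconj (τ x₀) (T.sq w) := Subtype.ext (Subtype.ext (by
    show σ ((x₀ : G) * gv w * (x₀ : G)⁻¹) = σ x₀ * σ (gv w) * (σ (x₀ : G))⁻¹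
    rw [map_mul, map_mul, map_inv]))
  rw [← T.scalar, m.act_rep] at hx
  obtain ⟨s, rfl⟩ := m.exists_zp hx.symm
  rw [T.sq_zp, m.rep_mul_zp, e, m.rep_conj, T.rep_sq, show τ x₀ = x₁ ^ i from hi.symm, act_pow m hs]

theorem disp_smul (v : V6) : T.disp (K4.of 2 • v) = K4.of 2 • T.disp v := by
  obtain ⟨a, ha⟩ := T.act_image
  have hS : ∀ v, K4.of 2 • v + T.disp (K4.of 2 • v) = a • (v + T.disp v) := fun v => by
    obtain ⟨x, hx⟩ := m.rep_surj (K4.of 2 • v)
    rw [← ha v x hx, T.rep_sq, hx]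
  obtain ⟨u, hu, hu0, hou⟩ : ∃ u, u ∈ T.FU ∧ u ≠ 0 ∧ K4.of 2 • u ∈ T.FU := by
    by_contra hcon
    push Not at hcon
    let f : T.FU × T.FU → V6 := fun p => K4.of 2 • (p.1 : V6) + p.2
    have hf : Function.Injective f := fun p q e => by
      have e' : K4.of 2 • ((p.1 : V6) + q.1) = p.2 + q.2 := by
        have e2 : K4.of 2 • (p.1 : V6) + p.2 = K4.of 2 • (q.1 : V6) + q.2 := e
        rw [smul_add]
        calc _ = K4.of 2 • (p.1 : V6) + p.2 + (K4.of 2 • (q.1 : V6) + q.2) + (↑p.2 + ↑q.2) := by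
              rw [add_add_add_comm _ (p.2 : V6) _ (q.2 : V6), add_assoc _ _ ((p.2 : V6) + q.2), neg_self6, add_zero]
          _ = _ := by rw [e2, neg_self6, zero_add]
      have h0 : (p.1 : V6) + q.1 = 0 := by
        by_contra hne
        exact hcon _ (add_mem p.1.2 q.1.2) hne (e' ▸ add_mem p.2.2 q.2.2)
      rw [h0, smul_zero] at e'
      have heq : ∀ a b : V6, a + b = 0 → a = b := fun a b h => by
        rw [← add_zero a, ← neg_self6 b, ← add_assoc, h, zero_add]
      exact Prod.ext (Subtype.ext (heq _ _ h0)) (Subtype.ext (heq _ _ e'.symm))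
    have h := Nat.card_le_card_of_injective f hf
    rw [Nat.card_prod, card_V6] at h
    have := Nat.mul_le_mul T.card_FU_ge T.card_FU_ge
    omega
  have e1 := hS u
  rw [T.disp_FU hu, T.disp_FU hou, add_zero, add_zero] at e1
  have hae : a = K4.of 2 := by
    obtain ⟨j, hj⟩ := Function.ne_iff.1 hu0
    have := congrFun e1 j
    simp only [Pi.smul_apply, smul_eq_mul] at this
    exact (mul_right_cancel₀ hj this).symm
  have := hS v
  rw [hae, smul_add] at this
  exact add_left_cancel this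

theorem rep_y_ne : m.rep y ≠ 0 := by
  intro e
  rcases (m.rep_zero y).1 e with h | h
  exacts [(m.of_lab (Or.inl T.lab)).2.1 h, (m.of_lab (Or.inl T.lab)).2.2 h]

theorem perp_y : ∀ u ∈ T.FU, T6 u (m.rep y) = 0 := by
  rintro _ ⟨a, ha, rfl⟩
  exact (m.comm_iff a y).1 (T.ycomm _ ha)

omit T in
theorem line_facts : ∀ a : K4, (K4.of 2 * a = 0 → a = 0) ∧ (K4.of 2 * a = 1 → a = K4.of 2 * K4.of 2) ∧
    (a + K4.of 2 * a = 1 → a = K4.of 2) ∧ (a + (1 : K4) + K4.of 2 * a = 0 → a = K4.of 2) := by decide +kernel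

/-- The displacement stays on the line. -/
theorem disp_line (v : V6) : ∃ a : K4, T.disp v = a • m.rep y := by
  have hp := T.perp v
  have ho : ∀ u ∈ T.FU, T6 u (K4.of 2 • T.disp v) = 0 := by
    rw [← T.disp_smul]; exact T.perp _
  have hsolve : ∀ a b : V6, a + b = 0 → a = b := fun a b h => by
    rw [← add_zero a, ← neg_self6 b, ← add_assoc, h, zero_add]
  have hA : 512 < Nat.card T.FU := by have := T.card_FU_ge; omega
  set d := T.disp v with hd
  have hw : K4.of 2 * (K4.of 2 * K4.of 2) = 1 ∧ (K4.of 2 * K4.of 2) * K4.of 2 = 1 ∧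
      (1 + K4.of 2) * K4.of 2 = 1 := by decide +kernel
  have c0 : K4.of 2 • d = 0 → d = 0 := fun h => by
    have e := congrArg (fun u : V6 => (K4.of 2 * K4.of 2) • u) h
    simpa [smul_smul, hw.2.1] using e
  rcases perp_three m hA T.perp_y hp ho with h | h | h | h | h | h | h
  · exact absurd h T.rep_y_ne
  · exact ⟨0, by rw [zero_smul, h]⟩
  · exact ⟨0, by rw [zero_smul, c0 h]⟩
  · exact ⟨1, by rw [one_smul, hsolve _ _ h]⟩
  · refine ⟨K4.of 2 * K4.of 2, ?_⟩
    rw [hsolve _ _ h, smul_smul, hw.2.1, one_smul]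
  · refine ⟨0, ?_⟩
    have e : (1 + K4.of 2) • d = 0 := by rw [add_smul, one_smul, h]
    have e' := congrArg (fun u : V6 => K4.of 2 • u) e
    simp only [smul_smul, mul_comm (K4.of 2) (1 + K4.of 2), hw.2.2, one_smul, smul_zero] at e'
    rw [zero_smul, e']
  · refine ⟨K4.of 2, ?_⟩
    have e : (1 + K4.of 2) • d = m.rep y := by
      refine hsolve _ _ ?_
      rw [add_smul, one_smul, ← h, add_comm _ (m.rep y), ← add_assoc]
    rw [← e, smul_smul, mul_comm, hw.2.2, one_smul]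

omit T in
theorem herm_line {p : V6} (h : hermForm 6 K4 2 p p = 0) (a b : K4) : hermForm 6 K4 2 (a • p) (b • p) = 0 := by
  rw [herm_smul, herm_smul_right, h, mul_zero, mul_zero]

theorem herm_y : hermForm 6 K4 2 (m.rep y) (m.rep y) = 0 := (m.herm_zero y).2 (m.of_lab (Or.inl T.lab)).1

theorem line_comm (a b : K4) : T6 (a • m.rep y) (b • m.rep y) = 0 := by
  rw [T6, herm_line T.herm_y, trb_facts.1]

/-- If the automorphism moves something, the fixed group is cut out by the line. -/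
theorem line_cut {v₀ : V6} (h₀ : T.disp v₀ ≠ 0) :
    Nat.card T.FU = 1024 ∧ (∀ v, T6 v (m.rep y) = 0 → T6 v (K4.of 2 • m.rep y) = 0 → v ∈ T.FU) ∧
      (∀ u ∈ T.FU, T6 u (K4.of 2 • m.rep y) = 0) ∧ ∀ a : K4, ∃ v, T.disp v = a • m.rep y := by
  obtain ⟨a, ha⟩ := T.disp_line v₀
  have ha0 : a ≠ 0 := fun e => h₀ (by rw [ha, e, zero_smul])
  have hall : ∀ b : K4, ∃ v, T.disp v = b • m.rep y := fun b => by
    rcases (show ∀ a b : K4, a ≠ 0 → b = 0 ∨ b = a ∨ b = K4.of 2 * a ∨ b = K4.of 2 * (K4.of 2 * a) by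
        decide +kernel) a b ha0 with rfl | rfl | rfl | rfl
    · exact ⟨0, by rw [zero_smul, T.disp_FU (zero_mem _)]⟩
    · exact ⟨v₀, ha⟩
    · exact ⟨K4.of 2 • v₀, by rw [T.disp_smul, ha, smul_smul]⟩
    · exact ⟨K4.of 2 • K4.of 2 • v₀, by rw [T.disp_smul, T.disp_smul, ha, smul_smul, smul_smul]; ring_nf⟩
  have hq : ∀ u ∈ T.FU, T6 u (K4.of 2 • m.rep y) = 0 := by
    obtain ⟨v, hv⟩ := hall (K4.of 2)
    rw [← hv]; exact T.perp v
  have hne : K4.of 2 • m.rep y ≠ 0 := fun e => T.rep_y_ne (by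
    have e' := congrArg (fun u : V6 => (K4.of 2 * K4.of 2) • u) e
    simpa [smul_smul, show K4.of 2 * K4.of 2 * K4.of 2 = 1 by decide +kernel] using e')
  have hsum : m.rep y + K4.of 2 • m.rep y ≠ 0 := fun e => T.rep_y_ne (by
    have e1 : (1 + K4.of 2) • m.rep y = 0 := by rw [add_smul, one_smul, e]
    have e' := congrArg (fun u : V6 => K4.of 2 • u) e1
    simpa [smul_smul, show K4.of 2 * (1 + K4.of 2) = 1 by decide +kernel] using e')
  obtain ⟨hc, hin⟩ := perp_two m T.card_FU_ge T.perp_y hq T.rep_y_ne hne hsum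
  exact ⟨hc, hin, hq, hall⟩

/-- Twice is the identity. -/
theorem sq_sq (x : Q) : T.sq (T.sq x) = x := by
  by_cases h : ∀ v, T.disp v = 0
  · obtain ⟨s, hs⟩ := m.exists_zp (show m.rep x = m.rep (T.sq x) by rw [T.rep_sq, h, add_zero])
    rw [hs, T.sq_zp, hs, mul_assoc, m.zp_self, mul_one]
  push Not at h
  obtain ⟨v₀, h₀⟩ := h
  obtain ⟨-, hin, -, hall⟩ := T.line_cut h₀
  obtain ⟨a, ha⟩ := T.disp_line (m.rep x)
  obtain ⟨w, hw⟩ := m.rep_surj (a • m.rep y)
  have hwU : gv w ∈ U := T.mem_FU.1 (hin _ (by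
    rw [hw]
    have := T.line_comm a 1
    rwa [one_smul] at this) (by rw [hw]; exact T.line_comm a _))
  have hfix : T.sq w = w := Subtype.ext (Subtype.ext (T.fix _ hwU))
  have hww : w * w = 1 := (m.herm_zero w).1 (by rw [hw, herm_line T.herm_y])
  obtain ⟨s, hs⟩ := m.exists_zp (show m.rep (x * w) = m.rep (T.sq x) by rw [T.rep_sq, ha, m.rep_mul, hw])
  rw [hs, T.sq_zp, T.sq_mul, hfix, hs, mul_assoc (x * w) (m.zp s), m.zp_comm w s, ← mul_assoc (x * w),
    mul_assoc x w w, hww, mul_one, mul_assoc, m.zp_self, mul_one]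

/-- Fixing the whole centraliser of the involution, it is trivial modulo the centre. -/
theorem trivial_of_fix_all (hall : ∀ x : Q, gv x * gv y = gv y * gv x → gv x ∈ U) (x : Q) :
    σ (gv x) = gv x ∨ σ (gv x) = gv x * z := by
  by_cases h : ∀ v, T.disp v = 0
  · exact m.rep_eq (show m.rep x = m.rep (T.sq x) by rw [T.rep_sq, h, add_zero])
  push Not at h
  obtain ⟨v₀, h₀⟩ := h
  obtain ⟨-, -, hq, -⟩ := T.line_cut h₀
  exfalso
  have hker : ∀ v, T6 v (m.rep y) = 0 → T6 v (K4.of 2 • m.rep y) = 0 := fun v hv => by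
    obtain ⟨w, rfl⟩ := m.rep_surj v
    exact hq _ (T.mem_FU.2 (hall w ((m.comm_iff w y).2 hv)))
  have hcases : (∀ v, T6 v (m.rep y) = 0) ∨ ∃ v₁, T6 v₁ (m.rep y) = 1 := by
    by_contra hc
    push Not at hc
    exact hc.1.elim fun v hv => hv (((show ∀ s : ZMod 2, s = 0 ∨ s = 1 by decide) _).resolve_right (hc.2 v))
  rcases hcases with hc | ⟨v₁, hv₁⟩
  · exact T.rep_y_ne (T6_nondeg m hc)
  have hlin : ∀ v, T6 v (K4.of 2 • m.rep y) = T6 v (m.rep y) * T6 v₁ (K4.of 2 • m.rep y) := fun v => by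
    rcases (show ∀ s : ZMod 2, s = 0 ∨ s = 1 by decide) (T6 v (m.rep y)) with e | e
    · rw [e, hker v e, zero_mul]
    · rw [e, one_mul]
      have := hker (v + v₁) (by rw [T6_add_left, e, hv₁]; decide)
      rw [T6_add_left] at this
      exact (show ∀ a b : ZMod 2, a + b = 0 → a = b by decide) _ _ this
  rcases (show ∀ s : ZMod 2, s = 0 ∨ s = 1 by decide) (T6 v₁ (K4.of 2 • m.rep y)) with e | e
  · refine T.rep_y_ne ?_
    have h0 := T6_nondeg m (p := K4.of 2 • m.rep y) fun v => by rw [hlin, e, mul_zero]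
    have e' := congrArg (fun u : V6 => (K4.of 2 * K4.of 2) • u) h0
    simpa [smul_smul, show K4.of 2 * K4.of 2 * K4.of 2 = 1 by decide +kernel] using e'
  · refine T.rep_y_ne ?_
    have h0 := T6_nondeg m (p := m.rep y + K4.of 2 • m.rep y) fun v => by
      rw [T6_add_right, hlin, e, mul_one]; exact (show ∀ a : ZMod 2, a + a = 0 by decide) _
    have e1 : (1 + K4.of 2) • m.rep y = 0 := by rw [add_smul, one_smul, h0]
    have e' := congrArg (fun u : V6 => K4.of 2 • u) e1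
    simpa [smul_smul, show K4.of 2 * (1 + K4.of 2) = 1 by decide +kernel] using e'

/-- When something of the centraliser moves, some fixed element turns the line. -/
theorem exists_turn (h₁ : ∃ x : Q, σ (gv x) ≠ gv x ∧ σ (gv x) ≠ gv x * z) :
    ∃ g : G, σ g = g ∧ (g * gv y * g⁻¹) * gv y = gv y * (g * gv y * g⁻¹) ∧ g * gv y * g⁻¹ ≠ gv y := by
  obtain ⟨x, hx1, hx2⟩ := h₁
  have hd0 : T.disp (m.rep x) ≠ 0 := fun e => by
    rcases m.rep_eq (show m.rep x = m.rep (T.sq x) by rw [T.rep_sq, e, add_zero]) with h | h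
    exacts [hx1 h, hx2 h]
  obtain ⟨-, hin, hq, hall⟩ := T.line_cut hd0
  have hxc : (σ (x₀ : G)) * z = z * σ (x₀ : G) := by
    have := congrArg σ (Subgroup.mem_centralizer_singleton_iff.1 x₀.2)
    rwa [map_mul, map_mul, T.fixz] at this
  let c : Subgroup.centralizer ({z} : Set G) := ⟨σ x₀, Subgroup.mem_centralizer_singleton_iff.2 hxc⟩
  have hact : ∀ v, m.act c v = K4.of 2 • v := fun v => by
    obtain ⟨w, rfl⟩ := m.rep_surj v
    obtain ⟨x', hx'⟩ : ∃ x', T.sq x' = w := ⟨T.sq w, T.sq_sq w⟩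
    have e : qconj c (T.sq x') = T.sq (qconj x₀ x') := Subtype.ext (Subtype.ext (by
      show σ x₀ * σ (gv x') * (σ (x₀ : G))⁻¹ = σ ((x₀ : G) * gv x' * (x₀ : G)⁻¹)
      rw [map_mul, map_mul, map_inv]))
    rw [← hx', m.act_rep, e, T.rep_sq, T.rep_sq, m.rep_conj, T.scalar, T.disp_smul, smul_add]
  have hcQ : x₀⁻¹ * c ∈ Q := (m.act_ker _).1 fun v => by
    rw [m.act_mul, hact, ← T.scalar, ← m.act_mul, inv_mul_cancel, m.act_one]
  have hqQ : c * x₀⁻¹ ∈ Q := by
    have := hQn.conj_mem _ hcQ x₀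
    rwa [mul_inv_cancel_left] at this
  set q : Q := ⟨_, hqQ⟩ with hqdef
  have hcq : c = (q : Subgroup.centralizer ({z} : Set G)) * x₀ := by simp [hqdef]
  have hqperp : ∀ u ∈ T.FU, T6 u (m.rep q) = 0 := by
    rintro _ ⟨a, ha, rfl⟩
    have hu' : gv (qconj x₀⁻¹ a) ∈ U := by
      refine T.mem_FU.1 (hin _ ?_ ?_)
      all_goals rw [m.rep_conj]
      all_goals
        have hinv : ∀ v : V6, m.act x₀⁻¹ v = (K4.of 2 * K4.of 2) • v := fun v => by
          refine m.act_inj x₀ ?_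
          rw [← m.act_mul, mul_inv_cancel, m.act_one, T.scalar, smul_smul,
            show K4.of 2 * (K4.of 2 * K4.of 2) = 1 by decide +kernel, one_smul]
        rw [hinv]
      · have h2 := hq _ ⟨a, ha, rfl⟩
        rw [T6, herm_smul]
        rw [T6, herm_smul_right] at h2
        rwa [show (K4.of 2 * K4.of 2 : K4) = K4.of 2 ^ 2 from (pow_two _).symm]
      · have h2 := T.perp_y _ ⟨a, ha, rfl⟩
        rw [T6, herm_smul, herm_smul_right]
        rw [T6] at h2
        rw [← mul_assoc, show (K4.of 2 * K4.of 2 * K4.of 2 ^ 2 : K4) = K4.of 2 by decide +kernel]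
        have h3 := hq _ ⟨a, ha, rfl⟩
        rw [T6, herm_smul_right] at h3
        generalize hermForm 6 K4 2 (m.rep a) (m.rep y) = h at h2 h3 ⊢
        revert h
        decide +kernel
    have e : qconj c (qconj x₀⁻¹ a) = a := Subtype.ext (Subtype.ext (by
      show σ x₀ * ((x₀⁻¹ : Subgroup.centralizer ({z} : Set G)) * gv a * (x₀⁻¹ : Subgroup.centralizer ({z} : Set G))⁻¹ : G)
        * (σ (x₀ : G))⁻¹ = gv a
      have hfix := T.fix _ hu'
      calc _ = σ x₀ * σ (gv (qconj x₀⁻¹ a)) * (σ (x₀ : G))⁻¹ := by rw [hfix]; rfl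
        _ = σ ((x₀ : G) * gv (qconj x₀⁻¹ a) * (x₀ : G)⁻¹) := by rw [map_mul, map_mul, map_inv]
        _ = σ (gv a) := by congr 1; show (x₀ : G) * ((x₀ : G)⁻¹ * gv a * ((x₀ : G)⁻¹)⁻¹) * (x₀ : G)⁻¹ = _; group
        _ = gv a := T.fix _ ha))
    rw [hcq, ← Model.qconj_qconj, Model.qconj_qconj x₀ x₀⁻¹] at e
    rw [mul_inv_cancel, show qconj (1 : Subgroup.centralizer ({z} : Set G)) a = a from Subtype.ext (by
      show 1 * (a : Subgroup.centralizer ({z} : Set G)) * 1⁻¹ = a; group), m.conj_Q] at e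
    rw [T6_comm]
    exact m.zp_inj (by rw [m.zp_zero]; exact mul_eq_left.1 e)
  obtain ⟨b, hb⟩ : ∃ b : K4, m.rep q = b • m.rep y := by
    have hA : 512 < Nat.card T.FU := by have := T.card_FU_ge; omega
    have hsolve : ∀ a b : V6, a + b = 0 → a = b := fun a b h => by
      rw [← add_zero a, ← neg_self6 b, ← add_assoc, h, zero_add]
    rcases perp_three m hA T.perp_y hq hqperp with h | h | h | h | h | h | h
    · exact absurd h T.rep_y_ne
    · exact absurd (by
        have e' := congrArg (fun u : V6 => (K4.of 2 * K4.of 2) • u) h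
        simpa [smul_smul, show K4.of 2 * K4.of 2 * K4.of 2 = 1 by decide +kernel] using e') T.rep_y_ne
    · exact ⟨0, by rw [zero_smul, h]⟩
    · exact absurd (by
        have e1 : (1 + K4.of 2) • m.rep y = 0 := by rw [add_smul, one_smul, h]
        have e' := congrArg (fun u : V6 => K4.of 2 • u) e1
        simpa [smul_smul, show K4.of 2 * (1 + K4.of 2) = 1 by decide +kernel] using e') T.rep_y_ne
    · exact ⟨1, by rw [one_smul, hsolve _ _ h]⟩
    · exact ⟨K4.of 2, by rw [hsolve _ _ h]⟩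
    · exact ⟨1 + K4.of 2, by rw [add_smul, one_smul, hsolve _ _ h]⟩
  obtain ⟨v, hv⟩ := hall b
  obtain ⟨r, hr⟩ := m.rep_surj v
  set w : G := gv r * (x₀ : G) with hw
  have hσw : σ w = w ∨ σ w = w * z := by
    have hr0 : m.rep (T.sq r * q) = m.rep r := by
      rw [m.rep_mul, T.rep_sq, hb, hr, hv, add_assoc, neg_self6, add_zero]
    have hσ : σ w = gv (T.sq r * q) * (x₀ : G) := by
      have : σ (x₀ : G) = gv q * (x₀ : G) := congrArg Subtype.val hcq
      rw [hw, map_mul, this, ← mul_assoc]; rfl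
    have hzx : z * (x₀ : G) = (x₀ : G) * z := (Subgroup.mem_centralizer_singleton_iff.1 x₀.2).symm
    rcases m.rep_eq hr0.symm with e | e
    · exact Or.inl (by rw [hσ, e, hw])
    · exact Or.inr (by rw [hσ, e, hw, mul_assoc, hzx, ← mul_assoc])
  have hwz : w * z = z * w :=
    Subgroup.mem_centralizer_singleton_iff.1 ((mul_mem (r : Subgroup.centralizer ({z} : Set G)).2 x₀.2 :
      w ∈ Subgroup.centralizer ({z} : Set G)))
  set gH : Subgroup.centralizer ({z} : Set G) := ↑r * x₀ * (↑r * x₀) with hgH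
  refine ⟨w * w, ?_, ?_⟩
  · rcases hσw with e | e <;> rw [map_mul, e]
    calc w * z * (w * z) = w * (z * w) * z := by group
      _ = w * (w * z) * z := by rw [← hwz]
      _ = w * w * (z * z) := by group
      _ = _ := by rw [m.ext.zz, mul_one]
  have hg : w * w * gv y * (w * w)⁻¹ = gv (qconj gH y) := rfl
  have hrep : m.rep (qconj gH y) = (K4.of 2 * K4.of 2) • m.rep y := by
    have hrv : ∀ u : V6, m.act (r : Subgroup.centralizer ({z} : Set G)) u = u := (m.act_ker _).2 r.2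
    rw [m.rep_conj, hgH, m.act_mul, m.act_mul, m.act_mul, T.scalar, hrv, T.scalar, hrv, smul_smul]
  rw [hg]
  refine ⟨(m.comm_iff _ _).2 (by
    rw [hrep]
    have := T.line_comm (K4.of 2 * K4.of 2) 1
    rwa [one_smul] at this), fun e => ?_⟩
  have e' : m.rep (qconj gH y) = m.rep y := by rw [show qconj gH y = y from Subtype.ext (Subtype.ext e)]
  rw [hrep] at e'
  obtain ⟨j, hj⟩ := Function.ne_iff.1 T.rep_y_ne
  have := congrFun e' j
  simp only [Pi.smul_apply, smul_eq_mul] at this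
  exact absurd (mul_right_cancel₀ hj (this.trans (one_mul _).symm)) (by decide +kernel)

end Twist

end Cfsg.Agent.Spor.M23Outer
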