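import Cfsg.Agent.Lib.Block.FischerTypes.M22Double
import Cfsg.Agent.Lib.Block.FischerTypes.M22Quasi
import Cfsg.Agent.Lib.Block.FischerTypes.M24Below
import Cfsg.Agent.Lib.Fus.M22U.TypeOf.Main
import Cfsg.Agent.Lib.Spor.Cos.Fi22.Trans
import Cfsg.Agent.Lib.Grp.Quasisimple
import Cfsg.Agent.Lib.Spor.M23Outer.AutQuot

/-!
A group isomorphic to Fi22 is of type M(22), with the centraliser of a transposition.
-/

set_option autoImplicit false
set_option maxRecDepth 100000
set_option linter.style.haveILetI false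
set_option linter.unusedSectionVars false

open Cfsg Cfsg.Agent.Spor.ThreeTrans Cfsg.Agent.Block.FischerTypes
open scoped commutatorElement

namespace Cfsg.Agent.Spor.M23Outer

theorem type_clause {W : Type*} [Group W] [Finite W] (e : W ≃* Spor.Fi22) :
    (∃ E : Set W, IsThreeTranspositionClass E ∧ IsOfTypeM22 W E) ∧
      ∃ d' : W, orderOf d' = 2 ∧ IsQuasisimple ↥(Subgroup.centralizer ({d'} : Set W)) ∧
        (∃ (K : Type) (_ : Field K) (_ : Fintype K), Fintype.card K = 4 ∧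
          ∃ _ : ((Subgroup.zpowers d').subgroupOf (Subgroup.centralizer ({d'} : Set W))).Normal,
            Nonempty (↥(Subgroup.centralizer ({d'} : Set W)) ⧸
              (Subgroup.zpowers d').subgroupOf (Subgroup.centralizer ({d'} : Set W)) ≃* PSU 6 K 2)) ∧
        ∃ g, g * d' * g⁻¹ ∈ Subgroup.centralizer ({d'} : Set W) ∧ g * d' * g⁻¹ ≠ d' := by
  set E := e.symm '' Cfsg.Agent.Fus.M22U.classD with hE
  have h3 : IsThreeTranspositionClass E := by
    rw [hE]
    refine class_image e.symm ?_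
    show IsThreeTranspositionClass (conjugatesOf (Cos.Fi22.g 0))
    rw [← Cfsg.Agent.Fus.M22U.tz_eq]
    exact Cos.Fi22.isThreeTranspositionClass
  have h22 : IsOfTypeM22 W E := m22_map e.symm Cfsg.Agent.Fus.M22U.TypeOf.isOfTypeM22
  refine ⟨⟨E, h3, h22⟩, ?_⟩
  have hperf : commutator W = ⊤ := by
    rw [commutator_def, ← Subgroup.map_top_of_surjective e.symm.toMonoidHom e.symm.surjective,
      ← Subgroup.map_commutator, ← commutator_def, fi22_perfect]
  have C := M22.ctx_of_perfect h3 hperf h22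
  obtain ⟨a, ha, -⟩ := h3.2.1
  refine ⟨a, C.set.cls.1.1 a ha, ?_, ?_, ?_⟩
  · rw [M22.centralizer_eq C ha]
    obtain ⟨F, iF, iT, h4, ⟨eq⟩⟩ := M22.hasModel_ctx C ha
    haveI := (psu_six h4).1
    exact ⟨⟨M22.perfect C ha⟩, eq.isSimpleGroup⟩
  · obtain ⟨F, iF, iT, h4, ⟨eq⟩⟩ := M22.hasModel_ctx C ha
    refine ⟨F, iF, iT, h4, ?_⟩
    rw [M22.centralizer_eq C ha]
    have hc := C.centre a ha
    have hn : ((Subgroup.zpowers a).subgroupOf (PerpGroup E a)).Normal := hc ▸ inferInstance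
    exact ⟨hn, ⟨(QuotientGroup.quotientMulEquivOfEq hc.symm).trans eq⟩⟩
  · obtain ⟨b, hb⟩ := C.set.perp_ne a ha
    obtain ⟨g, hg⟩ := transitive C.set.cls ha hb.1
    exact ⟨g, by rw [hg]; exact Subgroup.mem_centralizer_singleton_iff.2 hb.2.2.eq.symm, by rw [hg]; exact hb.2.1⟩

end Cfsg.Agent.Spor.M23Outer
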