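import Cfsg.Agent.Lib.Spor.M23Outer.Setting
import Cfsg.Agent.Lib.Spor.M23Outer.Twist
import Cfsg.Agent.Lib.Spor.M23Outer.AutQuot
import Cfsg.Agent.Lib.Spor.M23Outer.TypeClause
import Cfsg.Agent.Lib.Block.FischerTypes.M23Up.Final
import Cfsg.Agent.Lib.Invol.BTheoremBase

/-!
An involution outside a subgroup of index two of large Fischer type whose centraliser inside it is of type M(23),
given the structure of the centraliser of a noncentral involution of the extraspecial group.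
-/

set_option autoImplicit false
set_option maxRecDepth 100000
set_option linter.style.haveILetI false
set_option linter.unusedSectionVars false
set_option maxHeartbeats 1000000

open Cfsg

namespace Cfsg.Agent.Spor.M23Outer

open LargeFischer

/-- What is used about the centraliser of a noncentral involution of the extraspecial group. -/
def NoncentralShape {G : Type*} [Group G] (z : G) (Q : Subgroup (Subgroup.centralizer ({z} : Set G))) : Prop :=
  ∀ (t : G), (∃ htc : t ∈ Subgroup.centralizer ({z} : Set G),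
      (⟨t, htc⟩ : Subgroup.centralizer ({z} : Set G)) ∈ Q) → orderOf t = 2 → ¬ IsConj z t →
    ∀ (K : Subgroup ↥(Subgroup.centralizer ({t} : Set G))),
      K = Cfsg.generalizedFittingSubgroup ↥(Subgroup.centralizer ({t} : Set G)) →
    ∀ [((Subgroup.zpowers t).subgroupOf (Subgroup.centralizer ({t} : Set G))).Normal],
      Cfsg.IsQuasisimple ↥K ∧ K.index = 2 ∧
        (∃ htc : t ∈ Subgroup.centralizer ({t} : Set G),
          (⟨t, htc⟩ : ↥(Subgroup.centralizer ({t} : Set G))) ∈ K) ∧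
        Nonempty (↥(Subgroup.centralizer ({t} : Set G)) ⧸
          (Subgroup.zpowers t).subgroupOf (Subgroup.centralizer ({t} : Set G)) ≃* MulAut Cfsg.Spor.Fi22)

theorem zpowers_two {G : Type*} [Group G] {t x : G} (ht : t * t = 1) (hx : x ∈ Subgroup.zpowers t) :
    x = 1 ∨ x = t := by
  obtain ⟨k, rfl⟩ := hx
  rcases Int.even_or_odd' k with ⟨j, rfl | rfl⟩
  · left; show t ^ (2 * j) = 1; rw [zpow_mul, zpow_ofNat, pow_two, ht, one_zpow]
  · right; show t ^ (2 * j + 1) = t; rw [zpow_add, zpow_mul, zpow_ofNat, pow_two, ht, one_zpow, one_mul, zpow_one]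

theorem zpowers_normal {G : Type*} [Group G] (t : G) :
    ((Subgroup.zpowers t).subgroupOf (Subgroup.centralizer ({t} : Set G))).Normal :=
  ⟨fun a ha g => by
    obtain ⟨k, hk⟩ := Subgroup.mem_subgroupOf.1 ha
    have hc : Commute (g : G) (a : G) := by
      rw [← hk]; exact (show Commute (g : G) t from Subgroup.mem_centralizer_singleton_iff.1 g.2).zpow_right k
    rw [Subgroup.mem_subgroupOf]
    show (g : G) * a * (g : G)⁻¹ ∈ _
    rw [hc.eq, mul_inv_cancel_right]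
    exact ⟨k, hk⟩⟩

section

variable {G : Type*} [Group G] [Finite G] {z : G} {Q : Subgroup (Subgroup.centralizer ({z} : Set G))}
  [hQn : Q.Normal] (m : Model z Q)

include m

theorem exists_noncentral :
    ∃ y : Q, m.lab y = 1 ∧ ¬ IsConj z (gv y) ∧ orderOf (gv y) = 2 := by
  obtain ⟨y, hy⟩ := m.rep_surj (LargeFischer.rep m.k 1)
  have hl : m.lab y = 1 := by rw [Model.lab, hy]; exact (rep_first m.k m.hk).1
  obtain ⟨h1, h2, h3⟩ := m.of_lab (Or.inl hl)
  refine ⟨y, hl, fun h => ?_, orderOf_eq_prime (by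
    rw [pow_two]; exact congrArg (fun q : Q => gv q) h1) h2⟩
  obtain ⟨g, hg⟩ := isConj_iff.1 h
  have := lab_of_conj m (g := g) (s := y) hg.symm (by rw [hg]; exact h3)
  omega

theorem lab_one_of_not_conj (hnc : ∃ g : G, g * z * g⁻¹ ∈ QG Q ∧ g * z * g⁻¹ ≠ z) {y : Q} (hy : y * y = 1)
    (h1 : gv y ≠ 1) (hz : gv y ≠ z) (hn : ¬ IsConj z (gv y)) : m.lab y = 1 := by
  refine (m.lab_invol hy h1 hz).resolve_right fun h => hn ?_
  obtain ⟨g, hg, hne⟩ := hnc
  obtain ⟨s, hs⟩ := mem_QG.1 hg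
  obtain ⟨c, hc⟩ := m.conj_of_lab (x := s) (y := y) (Or.inr h) ((lab_of_conj m hs hne).trans h.symm)
  refine isConj_iff.2 ⟨(c : G) * g, ?_⟩
  calc (c : G) * g * z * ((c : G) * g)⁻¹ = (c : G) * (g * z * g⁻¹) * (c : G)⁻¹ := by group
    _ = (c : G) * gv s * (c : G)⁻¹ := by rw [show gv s = g * z * g⁻¹ from hs]
    _ = gv y := congrArg Subtype.val hc

theorem exists_sq_center (y : Q) :
    ∃ x : Q, gv x * gv y = gv y * gv x ∧ gv x * gv x = z := by
  by_contra hcon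
  push Not at hcon
  set D := QG Q ⊓ Subgroup.centralizer ({gv y} : Set G) with hD
  have hsq : ∀ a ∈ D, a * a = 1 := fun a ha => by
    obtain ⟨q, rfl⟩ := mem_QG.1 ha.1
    exact (m.ext.sq _ ha.1).resolve_right (hcon q (Subgroup.mem_centralizer_singleton_iff.1 ha.2))
  have hc : ∀ a ∈ D, ∀ b ∈ D, a * b = b * a := fun a ha b hb => by
    calc a * b = (a * b)⁻¹ := (inv_eq_of_mul_eq_one_right (hsq _ (mul_mem ha hb))).symm
      _ = b⁻¹ * a⁻¹ := mul_inv_rev a b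
      _ = b * a := by rw [inv_eq_of_mul_eq_one_right (hsq b hb), inv_eq_of_mul_eq_one_right (hsq a ha)]
  have h1 := Leech.abelian_sq_le m.ext (D := D) inf_le_left
    ⟨m.ext.mem, Subgroup.mem_centralizer_singleton_iff.2 (m.ext.central _ (mem_QG.2 ⟨y, rfl⟩)).symm⟩ hc hsq
  have h2 := m.ext.card_le_centralizing (b := gv y) (mem_QG.2 ⟨y, rfl⟩)
  rw [← hD] at h2
  rw [m.card_QG] at h1 h2
  have := Nat.mul_le_mul (show 2 ^ 12 ≤ Nat.card D by omega) (show 2 ^ 12 ≤ Nat.card D by omega)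
  omega

end

variable {X : Type*} [Group X] [Finite X] {G₀ : Subgroup X} {z : ↥G₀}
  {Q : Subgroup (Subgroup.centralizer ({z} : Set ↥G₀))} [hQn : Q.Normal]

theorem main (hidx : G₀.index = 2) (hF : IsOfLargeFischerTypeAt z Q)
    (hcentral : ∃ P : Sylow 2 ↥G₀, z ∈ (P : Subgroup ↥G₀) ∧ ∀ x ∈ (P : Subgroup ↥G₀), Commute x z)
    (hFX : (Cfsg.generalizedFittingSubgroup ↥(Subgroup.centralizer ({(z : X)} : Set X))).map
      (Subgroup.subtype _) = QX Q)
    (h50 : NoncentralShape z Q) :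
    ∃ d : X, orderOf d = 2 ∧ d ∉ G₀ ∧ Commute d (z : X) ∧
      ∃ t : ↥(G₀ ⊓ Subgroup.centralizer ({d} : Set X)), orderOf t = 2 ∧
        Cfsg.IsQuasisimple ↥(Subgroup.centralizer ({t} : Set ↥(G₀ ⊓ Subgroup.centralizer ({d} : Set X)))) ∧
        (∃ (_ : ((Subgroup.zpowers t).subgroupOf
            (Subgroup.centralizer ({t} : Set ↥(G₀ ⊓ Subgroup.centralizer ({d} : Set X))))).Normal),
          Nonempty (↥(Subgroup.centralizer ({t} : Set ↥(G₀ ⊓ Subgroup.centralizer ({d} : Set X)))) ⧸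
            (Subgroup.zpowers t).subgroupOf
              (Subgroup.centralizer ({t} : Set ↥(G₀ ⊓ Subgroup.centralizer ({d} : Set X)))) ≃* Spor.Fi22)) ∧
        (∃ g : ↥(G₀ ⊓ Subgroup.centralizer ({d} : Set X)),
          g * t * g⁻¹ ∈ Subgroup.centralizer ({t} : Set ↥(G₀ ⊓ Subgroup.centralizer ({d} : Set X))) ∧
            g * t * g⁻¹ ≠ t) ∧
        (∀ g : X, Commute g (t : X) → g * d * g⁻¹ = d ∨ g * d * g⁻¹ = d * (t : X)) ∧
        ∃ g : X, Commute g (t : X) ∧ g * d * g⁻¹ = d * (t : X) := by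
  haveI hn0 : G₀.Normal := Subgroup.normal_of_index_eq_two hidx
  haveI : Fact (Nat.Prime 2) := ⟨Nat.prime_two⟩
  obtain ⟨m⟩ := exists_model hF
  have hX := ext_X m hFX
  obtain ⟨x₀, hx3, hxn, hxs⟩ := exists_scalar_gen m hF
  obtain ⟨y, hlab, hny, hord⟩ := exists_noncentral m
  set t : ↥G₀ := gv y with ht
  obtain ⟨htt, ht1, htz⟩ := m.of_lab (Or.inl hlab)
  have htt' : t * t = 1 := congrArg (fun q : Q => gv q) htt
  -- an outer element commuting with z and t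
  obtain ⟨x₁, hx₁, hx₁z⟩ := exists_fix m hidx hcentral
  have hnc : ∃ g : ↥G₀, g * z * g⁻¹ ∈ QG Q ∧ g * z * g⁻¹ ≠ z := by
    obtain ⟨⟨-, -, -, -, g, ⟨hgc, hgQ⟩, hgne⟩, -⟩ := hF
    exact ⟨g, mem_QG.2 ⟨⟨_, hgQ⟩, rfl⟩, hgne⟩
  obtain ⟨d₀, hd₀, hd₀z, hd₀t⟩ :
      ∃ d₀ : X, d₀ ∉ G₀ ∧ d₀ * (z : X) = z * d₀ ∧ d₀ * (t : X) = t * d₀ := by
    obtain ⟨w, hw, hwe⟩ := hX.norm x₁ hx₁z _ ⟨t, mem_QG.2 ⟨y, rfl⟩, rfl⟩
    obtain ⟨y', rfl⟩ := mem_QG.1 hw
    have hwe' : ((gv y' : ↥G₀) : X) = x₁ * (t : X) * x₁⁻¹ := hwe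
    have hl' : m.lab y' = 1 := by
      refine lab_one_of_not_conj m hnc ?_ (fun e => ht1 ?_) (fun e => htz ?_) fun hcj => hny ?_
      · refine Subtype.ext (Subtype.ext (Subtype.ext ?_))
        show ((gv y' : ↥G₀) : X) * ((gv y' : ↥G₀) : X) = 1
        rw [hwe', show x₁ * (t : X) * x₁⁻¹ * (x₁ * (t : X) * x₁⁻¹) = x₁ * ((t : X) * t) * x₁⁻¹ by group,
          show (t : X) * t = 1 from congrArg Subtype.val htt', mul_one, mul_inv_cancel]
      · refine Subtype.ext ?_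
        rw [e] at hwe'
        calc (t : X) = x₁⁻¹ * (x₁ * (t : X) * x₁⁻¹) * x₁ := by group
          _ = ((1 : ↥G₀) : X) := by rw [← hwe', OneMemClass.coe_one]; group
      · refine Subtype.ext ?_
        rw [e] at hwe'
        calc (t : X) = x₁⁻¹ * (x₁ * (t : X) * x₁⁻¹) * x₁ := by group
          _ = x₁⁻¹ * ((z : X) * x₁) := by rw [← hwe', mul_assoc]
          _ = (z : X) := by rw [← hx₁z]; group
      · obtain ⟨g, hg⟩ := isConj_iff.1 hcj
        refine isConj_iff.2 ⟨⟨x₁⁻¹ * (g : X) * x₁⁻¹⁻¹, hn0.conj_mem _ g.2 _⟩, Subtype.ext ?_⟩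
        show (x₁⁻¹ * (g : X) * x₁⁻¹⁻¹) * (z : X) * (x₁⁻¹ * (g : X) * x₁⁻¹⁻¹)⁻¹ = (t : X)
        have hg' : (g : X) * (z : X) * (g : X)⁻¹ = x₁ * (t : X) * x₁⁻¹ := by
          rw [← hwe']; exact congrArg Subtype.val hg
        calc _ = x₁⁻¹ * (g : X) * (x₁ * (z : X) * x₁⁻¹) * (g : X)⁻¹ * x₁ := by group
          _ = x₁⁻¹ * ((g : X) * (z : X) * (g : X)⁻¹) * x₁ := by rw [hx₁z, mul_inv_cancel_right]; group
          _ = _ := by rw [hg']; group
    obtain ⟨c, hc⟩ := m.conj_of_lab (x := y') (y := y) (Or.inl hlab) (hl'.trans hlab.symm)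
    have hcz : ((c : ↥G₀) : X) * z = z * ((c : ↥G₀) : X) :=
      congrArg Subtype.val (Subgroup.mem_centralizer_singleton_iff.1 c.2)
    have hc' : ((c : ↥G₀) : X) * ((gv y' : ↥G₀) : X) * ((c : ↥G₀) : X)⁻¹ = (t : X) :=
      congrArg (fun q : ↥(Subgroup.centralizer ({z} : Set ↥G₀)) => ((q : ↥G₀) : X)) hc
    refine ⟨((c : ↥G₀) : X) * x₁, fun h => hx₁ ((mul_mem_cancel_left (c : ↥G₀).2).1 h),
      (Commute.mul_left hcz hx₁z : _), ?_⟩
    rw [hwe'] at hc'
    calc ((c : ↥G₀) : X) * x₁ * (t : X)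
        = ((c : ↥G₀) : X) * (x₁ * (t : X) * x₁⁻¹) * ((c : ↥G₀) : X)⁻¹ * (((c : ↥G₀) : X) * x₁) := by group
      _ = _ := by rw [hc']
  -- the component
  set C := Subgroup.centralizer ({t} : Set ↥G₀) with hC
  haveI hTn := zpowers_normal t
  set T := (Subgroup.zpowers t).subgroupOf C with hT
  set K := Cfsg.generalizedFittingSubgroup ↥C with hK
  obtain ⟨hKq, hKi, ⟨htC, htK⟩, ⟨e⟩⟩ := h50 t ⟨QG_le (mem_QG.2 ⟨y, rfl⟩), y.2⟩ hord hny K rfl
  have hKperf : commutator ↥K = ⊤ := hKq.1.commutator_eq_top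
  have hTc : T ≤ Subgroup.center ↥C := fun a ha => Subgroup.mem_center_iff.2 fun g => Subtype.ext (by
    obtain ⟨k, hk⟩ := Subgroup.mem_subgroupOf.1 ha
    show (g : ↥G₀) * a = a * g
    rw [← hk]; exact ((show Commute (g : ↥G₀) t from Subgroup.mem_centralizer_singleton_iff.1 g.2).zpow_right k).eq)
  obtain ⟨hKF, hcentK, hinner⟩ := quot_data hKperf hKi hTc e
  obtain ⟨d, hd, hdt, hdK⟩ : ∃ d : X, d ∉ G₀ ∧ d * (t : X) = t * d ∧
      ∀ k ∈ K, d * ((k : ↥G₀) : X) = ((k : ↥G₀) : X) * d := by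
    let σ₀ : MulAut ↥G₀ := MulAut.conjNormal d₀
    have hσ₀t : σ₀ t = t := Subtype.ext (by
      rw [MulAut.conjNormal_apply, hd₀t, mul_inv_cancel_right])
    let f : ↥C →* ↥C := (σ₀.toMonoidHom.comp C.subtype).codRestrict C fun a =>
      Subgroup.mem_centralizer_singleton_iff.2 (by
        have := congrArg σ₀ (Subgroup.mem_centralizer_singleton_iff.1 a.2)
        rwa [map_mul, map_mul, hσ₀t] at this)
    let α : MulAut ↥C := MulEquiv.ofBijective f
      (Finite.injective_iff_bijective.1 fun a b h => Subtype.ext (σ₀.injective (congrArg Subtype.val h)))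
    obtain ⟨c, hc⟩ := hinner α (fun k hk => (Invol.gfitting_map_eq α).le ⟨k, hk, rfl⟩) fun a ha => Subtype.ext (by
      obtain ⟨k, hk⟩ := Subgroup.mem_subgroupOf.1 ha
      show σ₀ (a : ↥G₀) = a
      rw [← hk, map_zpow, hσ₀t])
    refine ⟨((c : ↥G₀) : X)⁻¹ * d₀, fun h => hd₀ ((mul_mem_cancel_left (inv_mem (c : ↥G₀).2)).1 h), ?_,
      fun k hk => ?_⟩
    · exact (Commute.mul_left (Commute.inv_left
        (congrArg Subtype.val (Subgroup.mem_centralizer_singleton_iff.1 c.2))) hd₀t : _)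
    · have h : d₀ * ((k : ↥G₀) : X) * d₀⁻¹ = ((c : ↥G₀) : X) * ((k : ↥G₀) : X) * ((c : ↥G₀) : X)⁻¹ := by
        have := congrArg (fun q : ↥C => ((q : ↥G₀) : X)) (hc k hk)
        simpa [α, f, σ₀, MulAut.conjNormal_apply] using this
      calc ((c : ↥G₀) : X)⁻¹ * d₀ * ((k : ↥G₀) : X)
          = ((c : ↥G₀) : X)⁻¹ * (d₀ * ((k : ↥G₀) : X) * d₀⁻¹) * d₀ := by group
        _ = _ := by rw [h]; group
  -- z lies in it
  set KG := K.map C.subtype with hKG
  have hmulK : ∀ a b : ↥C, (a * b ∈ K ↔ (a ∈ K ↔ b ∈ K)) := fun a b => Subgroup.mul_mem_iff_of_index_two hKi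
  obtain ⟨x, hxt, hxx⟩ := exists_sq_center m y
  have hxC : gv x ∈ C := Subgroup.mem_centralizer_singleton_iff.2 hxt
  have hzKG : z ∈ KG := ⟨_, Subgroup.mul_self_mem_of_index_two hKi ⟨gv x, hxC⟩, hxx⟩
  have hdz : d * (z : X) = z * d := by
    obtain ⟨k, hk, hkz⟩ := hzKG
    have hkz' : (k : ↥G₀) = z := hkz
    rw [← hkz']
    exact hdK k hk
  let σ : MulAut ↥G₀ := MulAut.conjNormal d
  have hσfix : ∀ u : ↥G₀, σ u = u ↔ d * (u : X) = u * d := fun u => by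
    rw [Subtype.ext_iff, MulAut.conjNormal_apply, mul_inv_eq_iff_eq_mul]
  have hmapQ : ∀ u ∈ QG Q, σ u ∈ QG Q := fun u hu => by
    obtain ⟨w, hw, hwe⟩ := hX.norm d hdz _ ⟨u, hu, rfl⟩
    exact (show w = σ u from Subtype.ext (hwe.trans (MulAut.conjNormal_apply _ _).symm)) ▸ hw
  have htK' : t ∈ KG := ⟨_, htK, rfl⟩
  have hDsub : QG Q ⊓ C ≤ C := inf_le_right
  have hD : 2 ^ 12 ≤ Nat.card ↥(QG Q ⊓ C) := by
    have := m.ext.card_le_centralizing (b := t) (mem_QG.2 ⟨y, rfl⟩)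
    rw [m.card_QG, ← hC] at this
    omega
  set U := QG Q ⊓ KG with hU
  have hUle : U ≤ QG Q ⊓ C := le_inf inf_le_left (inf_le_right.trans (Subgroup.map_subtype_le _))
  have hUbig : 2 ^ 11 ≤ Nat.card U := by
    have h := Cos.Fi22Aut.card_le_two_mul (QG Q ⊓ C) KG fun a ha b hb haK hbK => by
      refine ⟨(⟨a, ha.2⟩ : ↥C)⁻¹ * ⟨b, hb.2⟩, ?_, rfl⟩
      rw [SetLike.mem_coe, hmulK, inv_mem_iff]
      exact iff_of_false (fun h => haK ⟨_, h, rfl⟩) fun h => hbK ⟨_, h, rfl⟩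
    have h' := Subgroup.card_le_of_le (show (QG Q ⊓ C) ⊓ KG ≤ U from inf_le_inf_right _ inf_le_left)
    omega
  have TW : Twist m y σ U x₀ :=
    { lab := hlab, fixz := (hσfix z).2 hdz, mapQ := hmapQ, card3 := hx3, normal := hxn, scalar := hxs
      le := inf_le_left, big := hUbig, zmem := ⟨m.ext.mem, hzKG⟩, ymem := ⟨mem_QG.2 ⟨y, rfl⟩, htK'⟩
      ycomm := fun u hu => Subgroup.mem_centralizer_singleton_iff.1 (hUle hu).2
      fix := by
        rintro u ⟨-, k, hk, rfl⟩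
        exact (hσfix _).2 (hdK k hk) }
  -- d is no inner automorphism of Q
  have houter : ∃ w : Q, σ (gv w) ≠ gv w ∧ σ (gv w) ≠ gv w * z := by
    by_contra hcon
    push Not at hcon
    refine hd ?_
    obtain ⟨q, -, rfl⟩ := hX.mem_of_trivial (c := d) (by
      rintro _ ⟨u, hu, rfl⟩
      obtain ⟨w, rfl⟩ := mem_QG.1 hu
      by_cases h : σ (gv w) = gv w
      · exact Or.inl ((MulAut.conjNormal_apply _ _).symm.trans (congrArg Subtype.val h))
      · exact Or.inr ((MulAut.conjNormal_apply _ _).symm.trans (congrArg Subtype.val (hcon w h))))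
    exact q.2
  -- d is an involution
  have hd2G : d * d ∈ G₀ := Subgroup.mul_self_mem_of_index_two hidx d
  have hdd : d * d = 1 := by
    have he : (⟨d * d, hd2G⟩ : ↥G₀) ∈ C := Subgroup.mem_centralizer_singleton_iff.2 (Subtype.ext (by
      show d * d * (t : X) = t * (d * d)
      rw [mul_assoc, hdt, ← mul_assoc, hdt, mul_assoc]))
    have hmem := hcentK ⟨_, he⟩ fun k hk => Subtype.ext (Subtype.ext (by
      show d * d * ((k : ↥G₀) : X) = ((k : ↥G₀) : X) * (d * d)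
      rw [mul_assoc, hdK k hk, ← mul_assoc, hdK k hk, mul_assoc]))
    rcases zpowers_two htt' (Subgroup.mem_subgroupOf.1 hmem) with h | h
    · exact congrArg Subtype.val h
    · exfalso
      have h' : d * d = (t : X) := congrArg Subtype.val h
      rcases m.ext.cen t (mem_QG.2 ⟨y, rfl⟩) (fun q hq => by
        obtain ⟨w, rfl⟩ := mem_QG.1 hq
        have e1 : σ (σ (gv w)) = gv w := congrArg (fun q : Q => gv q) (TW.sq_sq w)
        have e2 : d * (d * ((gv w : ↥G₀) : X) * d⁻¹) * d⁻¹ = ((gv w : ↥G₀) : X) := by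
          have := congrArg Subtype.val e1
          rwa [MulAut.conjNormal_apply, MulAut.conjNormal_apply] at this
        refine (Subtype.ext ?_).symm
        show (t : X) * ((gv w : ↥G₀) : X) = ((gv w : ↥G₀) : X) * t
        calc (t : X) * ((gv w : ↥G₀) : X) = d * (d * ((gv w : ↥G₀) : X) * d⁻¹) * d⁻¹ * (d * d) := by rw [← h']; group
          _ = _ := by rw [e2, h']) with h'' | h''
      exacts [ht1 h'', htz h'']
  have hd1 : d ≠ 1 := fun e => hd (e ▸ one_mem _)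
  refine ⟨d, orderOf_eq_prime (by rw [pow_two, hdd]) hd1, hd, hdz, ?_⟩
  have hY : ∀ {u : X}, u ∈ G₀ ⊓ Subgroup.centralizer ({d} : Set X) ↔ u ∈ G₀ ∧ u * d = d * u :=
    fun {u} => and_congr Iff.rfl Subgroup.mem_centralizer_singleton_iff
  have htY : (t : X) ∈ G₀ ⊓ Subgroup.centralizer ({d} : Set X) := hY.2 ⟨t.2, hdt.symm⟩
  have hnofix : ∀ g : ↥C, g ∉ K → d * ((g : ↥G₀) : X) ≠ ((g : ↥G₀) : X) * d := fun g hgK hgd => by
    have hfixC : ∀ a : ↥C, d * ((a : ↥G₀) : X) = ((a : ↥G₀) : X) * d := fun a => by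
      by_cases ha : a ∈ K
      · exact hdK a ha
      · have hga : g * a ∈ K := (hmulK _ _).2 (iff_of_false hgK ha)
        have h1 : Commute d (((g : ↥G₀) : X) * ((a : ↥G₀) : X)) := hdK _ hga
        have h2 : Commute d ((g : ↥G₀) : X) := hgd
        have := (h2.inv_right).mul_right h1
        rwa [inv_mul_cancel_left] at this
    obtain ⟨w, hw1, hw2⟩ := houter
    have TW' : Twist m y σ (QG Q ⊓ C) x₀ :=
      { lab := hlab, fixz := (hσfix z).2 hdz, mapQ := hmapQ, card3 := hx3, normal := hxn, scalar := hxs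
        le := inf_le_left, big := by omega
        zmem := ⟨m.ext.mem, Subgroup.mem_centralizer_singleton_iff.2 (m.ext.central t (mem_QG.2 ⟨y, rfl⟩)).symm⟩
        ymem := ⟨mem_QG.2 ⟨y, rfl⟩, Subgroup.mem_centralizer_singleton_iff.2 rfl⟩
        ycomm := fun u hu => Subgroup.mem_centralizer_singleton_iff.1 hu.2
        fix := fun u hu => (hσfix _).2 (hfixC ⟨u, hu.2⟩) }
    rcases TW'.trivial_of_fix_all (fun q hq => ⟨mem_QG.2 ⟨q, rfl⟩, Subgroup.mem_centralizer_singleton_iff.2 hq⟩) w with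
      h | h
    exacts [hw1 h, hw2 h]
  have hswap : ∀ g : X, Commute g (t : X) → g * d * g⁻¹ = d ∨ g * d * g⁻¹ = d * (t : X) := fun g hg => by
    let σg : MulAut ↥G₀ := MulAut.conjNormal g
    have hσgt : σg t = t := Subtype.ext (by rw [MulAut.conjNormal_apply, hg.eq, mul_inv_cancel_right])
    let f : ↥C →* ↥C := (σg.toMonoidHom.comp C.subtype).codRestrict C fun a =>
      Subgroup.mem_centralizer_singleton_iff.2 (by
        have := congrArg σg (Subgroup.mem_centralizer_singleton_iff.1 a.2)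
        rwa [map_mul, map_mul, hσgt] at this)
    let α : MulAut ↥C := MulEquiv.ofBijective f
      (Finite.injective_iff_bijective.1 fun a b h => Subtype.ext (σg.injective (congrArg Subtype.val h)))
    have hd' : g * d * g⁻¹ ∉ G₀ := fun h => hd (by
      have := hn0.conj_mem _ h g⁻¹
      rwa [show g⁻¹ * (g * d * g⁻¹) * g⁻¹⁻¹ = d by group] at this)
    have heG : d * (g * d * g⁻¹) ∈ G₀ := (Subgroup.mul_mem_iff_of_index_two hidx).2 (iff_of_false hd hd')
    have h1 : Commute (g * d * g⁻¹) (t : X) := by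
      have h := (show Commute d (t : X) from hdt).map (MulAut.conj g).toMonoidHom
      simp only [MulEquiv.coe_toMonoidHom, MulAut.conj_apply] at h
      rwa [hg.eq, mul_inv_cancel_right] at h
    have h2 : ∀ k ∈ K, Commute (g * d * g⁻¹) ((k : ↥G₀) : X) := fun k hk => by
      obtain ⟨k', hk', e⟩ := (Invol.gfitting_map_eq α).ge hk
      have e' : g * ((k' : ↥G₀) : X) * g⁻¹ = ((k : ↥G₀) : X) := by
        rw [← e]; simp [α, f, σg, MulAut.conjNormal_apply]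
      rw [← e']
      have h := (show Commute d ((k' : ↥G₀) : X) from hdK k' hk').map (MulAut.conj g).toMonoidHom
      simpa only [MulEquiv.coe_toMonoidHom, MulAut.conj_apply] using h
    have he : (⟨_, heG⟩ : ↥G₀) ∈ C := Subgroup.mem_centralizer_singleton_iff.2
      (Subtype.ext ((show Commute d (t : X) from hdt).mul_left h1).eq)
    have hmem := hcentK ⟨_, he⟩ fun k hk => Subtype.ext (Subtype.ext
      ((show Commute d ((k : ↥G₀) : X) from hdK k hk).mul_left (h2 k hk)).eq)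
    have hd' : g * d * g⁻¹ = d * (d * (g * d * g⁻¹)) := by rw [← mul_assoc, hdd, one_mul]
    rcases zpowers_two htt' (Subgroup.mem_subgroupOf.1 hmem) with h | h
    · left
      rw [hd', show d * (g * d * g⁻¹) = 1 from congrArg Subtype.val h, mul_one]
    · right
      rw [hd', show d * (g * d * g⁻¹) = (t : X) from congrArg Subtype.val h]
  have hswap' : ∃ g : X, Commute g (t : X) ∧ g * d * g⁻¹ = d * (t : X) := by
    obtain ⟨g, hgK⟩ : ∃ g : ↥C, g ∉ K := by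
      by_contra hcon
      push Not at hcon
      rw [(Subgroup.eq_top_iff' K).2 hcon, Subgroup.index_top] at hKi
      omega
    have hgt : Commute ((g : ↥G₀) : X) (t : X) :=
      congrArg Subtype.val (Subgroup.mem_centralizer_singleton_iff.1 g.2)
    exact ⟨_, hgt, (hswap _ hgt).resolve_left fun h => hnofix g hgK (mul_inv_eq_iff_eq_mul.1 h).symm⟩
  set tY : ↥(G₀ ⊓ Subgroup.centralizer ({d} : Set X)) := ⟨t, htY⟩ with htYdef
  refine ⟨tY, by rw [← Subgroup.orderOf_coe, show ((tY : ↥(G₀ ⊓ Subgroup.centralizer ({d} : Set X))) : X) = (t : X) from rfl, Subgroup.orderOf_coe, hord], ?_⟩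
  set CY := Subgroup.centralizer ({tY} : Set ↥(G₀ ⊓ Subgroup.centralizer ({d} : Set X))) with hCY
  let ι : ↥K →* ↥CY := MonoidHom.mk' (fun k => ⟨⟨(((k : ↥C) : ↥G₀) : X), hY.2 ⟨((k : ↥C) : ↥G₀).2, (hdK k k.2).symm⟩⟩,
    Subgroup.mem_centralizer_singleton_iff.2 (Subtype.ext
      (show (((k : ↥C) : ↥G₀) : X) * (t : X) = (t : X) * (((k : ↥C) : ↥G₀) : X) from
        congrArg Subtype.val (Subgroup.mem_centralizer_singleton_iff.1 (k : ↥C).2)))⟩) fun a b => rfl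
  have hι : Function.Bijective ι := by
    refine ⟨fun a b h => Subtype.ext (Subtype.ext (Subtype.ext (congrArg (fun q : ↥CY => ((q : ↥(G₀ ⊓ Subgroup.centralizer ({d} : Set X))) : X)) h :))),
      fun u => ?_⟩
    have hu := hY.1 (u : ↥(G₀ ⊓ Subgroup.centralizer ({d} : Set X))).2
    set g : ↥G₀ := ⟨_, hu.1⟩ with hgdef
    have hgC : g ∈ C := Subgroup.mem_centralizer_singleton_iff.2 (Subtype.ext
      (congrArg Subtype.val (Subgroup.mem_centralizer_singleton_iff.1 u.2) :))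
    by_cases hgK : (⟨g, hgC⟩ : ↥C) ∈ K
    · exact ⟨⟨_, hgK⟩, Subtype.ext (Subtype.ext rfl)⟩
    exact absurd hu.2.symm (hnofix ⟨g, hgC⟩ hgK)
  let Φ : ↥K ≃* ↥CY := MulEquiv.ofBijective ι hι
  haveI hYn := zpowers_normal tY
  have hmap : (T.subgroupOf K).map Φ.toMonoidHom = (Subgroup.zpowers tY).subgroupOf CY := by
    ext u
    constructor
    · rintro ⟨k, hk, rfl⟩
      obtain ⟨j, hj⟩ := Subgroup.mem_subgroupOf.1 (Subgroup.mem_subgroupOf.1 hk)
      refine Subgroup.mem_subgroupOf.2 ⟨j, Subtype.ext ?_⟩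
      show ((tY ^ j : ↥(G₀ ⊓ Subgroup.centralizer ({d} : Set X))) : X) = (((k : ↥C) : ↥G₀) : X)
      rw [SubgroupClass.coe_zpow, ← hj, SubgroupClass.coe_zpow]
    · intro hu
      obtain ⟨j, hj⟩ := Subgroup.mem_subgroupOf.1 hu
      refine ⟨⟨⟨t, htC⟩, htK⟩ ^ j, Subgroup.mem_subgroupOf.2 (Subgroup.mem_subgroupOf.2 ⟨j, by simp⟩), ?_⟩
      refine Subtype.ext ?_
      rw [← hj, MulEquiv.coe_toMonoidHom, map_zpow, SubgroupClass.coe_zpow]
      rfl
  refine ⟨(Grp.isQuasisimple_congr Φ).1 hKq, ⟨hYn, ?_⟩, ?_, hswap, hswap'⟩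
  · obtain ⟨eF⟩ := hKF
    exact ⟨(QuotientGroup.congr _ _ Φ hmap).symm.trans eF⟩
  · obtain ⟨g, hg1, hg2, hg3⟩ := TW.exists_turn houter
    refine ⟨⟨g, hY.2 ⟨g.2, ((hσfix g).1 hg1).symm⟩⟩, Subgroup.mem_centralizer_singleton_iff.2 (Subtype.ext ?_),
      fun h => hg3 (Subtype.ext (congrArg Subtype.val h :))⟩
    exact (congrArg Subtype.val hg2 :)

/-- The outer involution with its centraliser of type M(23), and the action of the centraliser of `t`. -/
theorem outer_involution_full (hidx : G₀.index = 2) (hF : IsOfLargeFischerTypeAt z Q)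
    (hcentral : ∃ P : Sylow 2 ↥G₀, z ∈ (P : Subgroup ↥G₀) ∧ ∀ x ∈ (P : Subgroup ↥G₀), Commute x z)
    (hFX : (Cfsg.generalizedFittingSubgroup ↥(Subgroup.centralizer ({(z : X)} : Set X))).map (Subgroup.subtype _) = ((Q.map (Subgroup.subtype _)).map G₀.subtype))
    (h50 : NoncentralShape z Q) : ∃ d : X, orderOf d = 2 ∧ d ∉ G₀ ∧ Commute d (z : X) ∧ ∃ t : ↥(G₀ ⊓ Subgroup.centralizer ({d} : Set X)), orderOf t = 2 ∧ Cfsg.IsQuasisimple ↥(Subgroup.centralizer ({t} : Set ↥(G₀ ⊓ Subgroup.centralizer ({d} : Set X)))) ∧ (∃ (_ : ((Subgroup.zpowers t).subgroupOf (Subgroup.centralizer ({t} : Set ↥(G₀ ⊓ Subgroup.centralizer ({d} : Set X))))).Normal), (∃ E : Set (↥(Subgroup.centralizer ({t} : Set ↥(G₀ ⊓ Subgroup.centralizer ({d} : Set X)))) ⧸ (Subgroup.zpowers t).subgroupOf (Subgroup.centralizer ({t} : Set ↥(G₀ ⊓ Subgroup.centralizer ({d} : Set X))))), Cfsg.IsThreeTranspositionClass E ∧ Cfsg.IsOfTypeM22 _ E) ∧ ∃ d' : ↥(Subgroup.centralizer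 ({t} : Set ↥(G₀ ⊓ Subgroup.centralizer ({d} : Set X)))) ⧸ (Subgroup.zpowers t).subgroupOf (Subgroup.centralizer ({t} : Set ↥(G₀ ⊓ Subgroup.centralizer ({d} : Set X)))), orderOf d' = 2 ∧ Cfsg.IsQuasisimple ↥(Subgroup.centralizer ({d'} : Set _)) ∧ (∃ (K : Type) (_ : Field K) (_ : Fintype K), Fintype.card K = 4 ∧ ∃ _ : ((Subgroup.zpowers d').subgroupOf (Subgroup.centralizer ({d'} : Set _))).Normal, Nonempty (↥(Subgroup.centralizer ({d'} : Set _)) ⧸ (Subgroup.zpowers d').subgroupOf (Subgroup.centralizer ({d'} : Set _)) ≃* Cfsg.PSU 6 K 2)) ∧ ∃ g, g * d' * g⁻¹ ∈ Subgroup.centralizer ({d'} : Set _) ∧ g * d' * g⁻¹ ≠ d') ∧ (∃ g : ↥(G₀ ⊓ Subgroup.centralizer ({d} : Set X)), g * t * g⁻¹ ∈ Subgroup.centralizer ({t} : Set ↥(G₀ ⊓ Subgroup.centralizer ({d} : Set X))) ∧ g * t * g⁻¹ ≠ t) ∧ Cfsg.IsThreeTranspositionClass (conjugatesOf t) ∧ Cfsg.IsOfTypeM23 ↥(G₀ ⊓ Subgroup.centralizer ({d} : Set X)) (conjugatesOf t) ∧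
      (∀ g : X, Commute g (t : X) → g * d * g⁻¹ = d ∨ g * d * g⁻¹ = d * (t : X)) ∧
      ∃ g : X, Commute g (t : X) ∧ g * d * g⁻¹ = d * (t : X) := by
  obtain ⟨d, h1, h2, h3, t, h4, h5, ⟨hn, he⟩, hnwc, hs⟩ := main hidx hF hcentral hFX h50
  obtain ⟨e⟩ := id he
  obtain ⟨hE, hd'⟩ := type_clause e
  obtain ⟨I⟩ := Block.M23Up.exists_ident h4 h5 he
  obtain ⟨h6, h7, -⟩ := Block.M23Up.fi23_facts I hnwc
  exact ⟨d, h1, h2, h3, t, h4, h5, ⟨hn, hE, hd'⟩, hnwc, h6, h7, hs⟩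


/-- The outer involution with its centraliser of type M(23). -/
theorem outer_involution (hidx : G₀.index = 2) (hF : IsOfLargeFischerTypeAt z Q)
    (hcentral : ∃ P : Sylow 2 ↥G₀, z ∈ (P : Subgroup ↥G₀) ∧ ∀ x ∈ (P : Subgroup ↥G₀), Commute x z)
    (hFX : (Cfsg.generalizedFittingSubgroup ↥(Subgroup.centralizer ({(z : X)} : Set X))).map (Subgroup.subtype _) = ((Q.map (Subgroup.subtype _)).map G₀.subtype))
    (h50 : NoncentralShape z Q) : ∃ d : X, orderOf d = 2 ∧ d ∉ G₀ ∧ Commute d (z : X) ∧ ∃ t : ↥(G₀ ⊓ Subgroup.centralizer ({d} : Set X)), orderOf t = 2 ∧ Cfsg.IsQuasisimple ↥(Subgroup.centralizer ({t} : Set ↥(G₀ ⊓ Subgroup.centralizer ({d} : Set X)))) ∧ (∃ (_ : ((Subgroup.zpowers t).subgroupOf (Subgroup.centralizer ({t} : Set ↥(G₀ ⊓ Subgroup.centralizer ({d} : Set X))))).Normal), (∃ E : Set (↥(Subgroup.centralizer ({t} : Set ↥(G₀ ⊓ Subgroup.centralizer ({d} : Set X)))) ⧸ (Subgroup.zpowers t).subgroupOf (Subgroup.centralizer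 ({t} : Set ↥(G₀ ⊓ Subgroup.centralizer ({d} : Set X))))), Cfsg.IsThreeTranspositionClass E ∧ Cfsg.IsOfTypeM22 _ E) ∧ ∃ d' : ↥(Subgroup.centralizer ({t} : Set ↥(G₀ ⊓ Subgroup.centralizer ({d} : Set X)))) ⧸ (Subgroup.zpowers t).subgroupOf (Subgroup.centralizer ({t} : Set ↥(G₀ ⊓ Subgroup.centralizer ({d} : Set X)))), orderOf d' = 2 ∧ Cfsg.IsQuasisimple ↥(Subgroup.centralizer ({d'} : Set _)) ∧ (∃ (K : Type) (_ : Field K) (_ : Fintype K), Fintype.card K = 4 ∧ ∃ _ : ((Subgroup.zpowers d').subgroupOf (Subgroup.centralizer ({d'} : Set _))).Normal, Nonempty (↥(Subgroup.centralizer ({d'} : Set _)) ⧸ (Subgroup.zpowers d').subgroupOf (Subgroup.centralizer ({d'} : Set _)) ≃* Cfsg.PSU 6 K 2)) ∧ ∃ g, g * d' * g⁻¹ ∈ Subgroup.centralizer ({d'} : Set _) ∧ g * d' * g⁻¹ ≠ d') ∧ (∃ g : ↥(G₀ ⊓ Subgroup.centralizer ({d} : Set X)), g * t * g⁻¹ ∈ Subgroup.centralizer ({t} : Set ↥(G₀ ⊓ Subgroup.centralizer ({d} : Set X))) ∧ g * t *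 g⁻¹ ≠ t) ∧ Cfsg.IsThreeTranspositionClass (conjugatesOf t) ∧ Cfsg.IsOfTypeM23 ↥(G₀ ⊓ Subgroup.centralizer ({d} : Set X)) (conjugatesOf t) := by
  obtain ⟨d, h1, h2, h3, t, h4, h5, h6, h7, h8, h9, -⟩ := outer_involution_full hidx hF hcentral hFX h50
  exact ⟨d, h1, h2, h3, t, h4, h5, h6, h7, h8, h9⟩

end Cfsg.Agent.Spor.M23Outer
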