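import Cfsg.Agent.Lib.Spor.LargeFischer.Classes
import Cfsg.Agent.Lib.Grp.Components
import Cfsg.Prelude.Def_MonsterType

/-!
A group with a subgroup of index two of large Fischer type: an outer element commuting with the central involution,
and the extraspecial group in the whole group.
-/

set_option autoImplicit false
set_option maxRecDepth 100000
set_option linter.style.haveILetI false
set_option linter.unusedSectionVars false

open Cfsg

namespace Cfsg.Agent.Spor.M23Outer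

open LargeFischer

variable {X : Type*} [Group X] [Finite X] {G₀ : Subgroup X} [hn0 : G₀.Normal] {z : ↥G₀}
  {Q : Subgroup (Subgroup.centralizer ({z} : Set ↥G₀))} [hQn : Q.Normal] (m : Model z Q)

/-- The extraspecial group in the whole group. -/
abbrev QX {G₀ : Subgroup X} {z : ↥G₀} (Q : Subgroup (Subgroup.centralizer ({z} : Set ↥G₀))) : Subgroup X :=
  (QG Q).map G₀.subtype

include m

theorem center_sylow (P : Sylow 2 ↥G₀)
    (hc : ∀ x ∈ (P : Subgroup ↥G₀), Commute x z) {a : ↥G₀}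
    (hac : ∀ x ∈ (P : Subgroup ↥G₀), x * a = a * x) : a = 1 ∨ a = z := by
  haveI : Fact (Nat.Prime 2) := ⟨Nat.prime_two⟩
  have hN : (P : Subgroup ↥G₀) ≤ Subgroup.normalizer (QG Q : Set ↥G₀) := fun p hp => by
    refine Subgroup.mem_normalizer_iff.2 fun q => ⟨fun hq => m.ext.norm p (hc p hp).eq q hq, fun hq => ?_⟩
    have := m.ext.norm p⁻¹ ((hc p hp).inv_left.eq) _ hq
    rwa [show p⁻¹ * (p * q * p⁻¹) * p⁻¹⁻¹ = q by group] at this
  have h2 : IsPGroup 2 ↥((P : Subgroup ↥G₀) ⊔ QG Q) :=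
    P.2.to_sup_of_normal_right' (IsPGroup.of_card m.card_QG) hN
  have hle : QG Q ≤ (P : Subgroup ↥G₀) := le_sup_right.trans (P.3 h2 le_sup_left).le
  have haQ : a ∈ QG Q := m.ext.self a fun q hq => hac q (hle hq)
  exact m.ext.cen a haQ fun q hq => hac q (hle hq)

theorem exists_fix (hidx : G₀.index = 2)
    (hcentral : ∃ P : Sylow 2 ↥G₀, z ∈ (P : Subgroup ↥G₀) ∧ ∀ x ∈ (P : Subgroup ↥G₀), Commute x z) :
    ∃ x : X, x ∉ G₀ ∧ x * (z : X) = z * x := by
  haveI : Fact (Nat.Prime 2) := ⟨Nat.prime_two⟩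
  obtain ⟨P, hz, hc⟩ := hcentral
  obtain ⟨x, hx⟩ : ∃ x : X, x ∉ G₀ := by
    by_contra hcon
    push Not at hcon
    rw [(Subgroup.eq_top_iff' G₀).2 hcon, Subgroup.index_top] at hidx
    omega
  let σ : MulAut ↥G₀ := MulAut.conjNormal x
  have hP' : IsPGroup 2 ↥((P : Subgroup ↥G₀).map σ.toMonoidHom) := P.2.map _
  obtain ⟨P', hle⟩ := hP'.exists_le_sylow
  obtain ⟨g, hg⟩ := MulAction.exists_smul_eq ↥G₀ P' P
  let τ : MulAut ↥G₀ := MulAut.conj g * σ
  have hmap : ∀ p ∈ (P : Subgroup ↥G₀), τ p ∈ (P : Subgroup ↥G₀) := fun p hp => by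
    rw [← hg]
    exact ⟨σ p, hle ⟨p, hp, rfl⟩, rfl⟩
  have hsur : ∀ q ∈ (P : Subgroup ↥G₀), ∃ p ∈ (P : Subgroup ↥G₀), τ p = q := fun q hq => by
    have he : (P : Subgroup ↥G₀).map τ.toMonoidHom = (P : Subgroup ↥G₀) :=
      Subgroup.eq_of_le_of_card_ge (by rintro _ ⟨p, hp, rfl⟩; exact hmap p hp)
        (Subgroup.card_map_of_injective τ.injective).ge
    obtain ⟨p, hp, e⟩ := he.ge hq
    exact ⟨p, hp, e⟩
  have hfix : τ z = z := by
    refine (center_sylow m P hc (a := τ z) fun q hq => ?_).resolve_left fun e => m.ext.ne (by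
      rw [← map_one τ] at e; exact τ.injective e)
    obtain ⟨p, hp, rfl⟩ := hsur q hq
    rw [← map_mul, ← map_mul, (hc p hp).eq]
  refine ⟨(g : X) * x, fun h => hx ((mul_mem_cancel_left g.2).1 h), ?_⟩
  have e : (g : X) * (x * (z : X) * x⁻¹) * (g : X)⁻¹ = z := congrArg Subtype.val hfix
  calc (g : X) * x * (z : X) = (g : X) * (x * (z : X) * x⁻¹) * (g : X)⁻¹ * ((g : X) * x) := by group
    _ = (z : X) * ((g : X) * x) := by rw [e]

theorem ext_X (hFX : (Cfsg.generalizedFittingSubgroup ↥(Subgroup.centralizer ({(z : X)} : Set X))).map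
    (Subgroup.subtype _) = QX Q) : ExtraPair.Ext (z : X) (QX Q) := by
  have hzQ : (z : X) ∈ QX Q := ⟨z, m.ext.mem, rfl⟩
  refine ⟨hzQ, fun e => m.ext.ne (Subtype.ext e), congrArg Subtype.val m.ext.zz, ?_, ?_, ?_, ?_, fun c hc => ?_,
    fun c hc x hx => ?_⟩
  · rintro _ ⟨q, hq, rfl⟩; exact congrArg Subtype.val (m.ext.central q hq)
  · rintro _ ⟨a, ha, rfl⟩ _ ⟨b, hb, rfl⟩
    rw [← map_commutatorElement]
    exact (m.ext.comm a ha b hb).imp (fun e => by rw [e, map_one]) fun e => by rw [e]; rfl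
  · rintro _ ⟨a, ha, rfl⟩
    exact (m.ext.sq a ha).imp (fun e => congrArg Subtype.val e) fun e => congrArg Subtype.val e
  · rintro _ ⟨a, ha, rfl⟩ h
    exact (m.ext.cen a ha fun q hq => Subtype.ext (h _ ⟨q, hq, rfl⟩)).imp (fun e => by rw [e]; rfl)
      fun e => by rw [e]; rfl
  · have hcz : c ∈ Subgroup.centralizer ({(z : X)} : Set X) :=
      Subgroup.mem_centralizer_singleton_iff.2 (hc _ hzQ).symm
    rw [← hFX]
    refine ⟨⟨c, hcz⟩, Grp.centralizer_gfitting_le (Subgroup.mem_centralizer_iff.2 fun b hb => Subtype.ext ?_), rfl⟩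
    exact hc _ (hFX.le ⟨b, hb, rfl⟩)
  · rw [← hFX] at hx ⊢
    obtain ⟨b, hb, rfl⟩ := hx
    haveI := Cfsg.Agent.Grp.instCharLayer (G := ↥(Subgroup.centralizer ({(z : X)} : Set X)))
    haveI := Cfsg.Agent.Grp.fittingSubgroup_isNormal (G := ↥(Subgroup.centralizer ({(z : X)} : Set X)))
    have hn : (Cfsg.generalizedFittingSubgroup ↥(Subgroup.centralizer ({(z : X)} : Set X))).Normal := by
      unfold Cfsg.generalizedFittingSubgroup; infer_instance
    exact ⟨⟨c, Subgroup.mem_centralizer_singleton_iff.2 hc⟩ * b * ⟨c, Subgroup.mem_centralizer_singleton_iff.2 hc⟩⁻¹,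
      hn.conj_mem _ hb _, rfl⟩

end Cfsg.Agent.Spor.M23Outer
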